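import Cfsg.Agent.Lib.PermGroups.Zassenhaus.Group
import Cfsg.Agent.Lib.TwoGroups.RankOne
import Mathlib.GroupTheory.Transfer
import Mathlib.GroupTheory.Solvable

/-!
The action on five points and the structure of a perfect group with a fixed-point-free
representation.
-/

set_option autoImplicit false
set_option linter.style.haveILetI false

open scoped Pointwise

namespace CfsgLib.PermGroups

/-- The elements in the star of a related pair. -/
def starList {M : Type*} [Group M] (t u : M) : List M :=
  [t, t⁻¹] ++ [u, t * u * t⁻¹, t⁻¹ * u * t] ++ [u, t * u * t⁻¹, t⁻¹ * u * t].map (·⁻¹)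

theorem starList_map {M M' : Type*} [Group M] [Group M'] (f : M →* M') (t u : M) :
    (starList t u).map f = starList (f t) (f u) := by
  simp [starList]

theorem star_eq (t u : Equiv.Perm (Fin 5)) : Perm5.star t u = starList t u := rfl

theorem pow_three_of_mem_starList {M : Type*} [Group M] {t u v : M} (ht : t ^ 3 = 1)
    (hu : u ^ 3 = 1) (hv : v ∈ starList t u) : v ^ 3 = 1 := by
  simp only [starList, List.map_cons, List.map_nil, List.cons_append, List.nil_append,
    List.mem_cons, List.not_mem_nil, or_false] at hv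
  have h1 : (t * u * t⁻¹) ^ 3 = 1 := by rw [conj_pow, hu, mul_one, mul_inv_cancel]
  have h2 : (t⁻¹ * u * t) ^ 3 = 1 := by
    have h : (t⁻¹ * u * t⁻¹⁻¹) ^ 3 = 1 := by rw [conj_pow, hu, mul_one, mul_inv_cancel]
    simpa using h
  rcases hv with rfl | rfl | rfl | rfl | rfl | rfl | rfl | rfl <;>
    first | assumption | (rw [inv_pow]; simp [ht, hu, h1, h2])

/-- A group with a normal subgroup of type `A₅` (up to a kernel) acts on five points, extending the
given map, with kernel the centraliser. -/
theorem exists_five_action {G : Type*} [Group G] {N : Subgroup G} [hN : N.Normal]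
    (π : N →* Equiv.Perm (Fin 5))
    (hker : ∀ (g : G) (n : N), π n = 1 → π (MulAut.conjNormal g n) = 1)
    (hinj : ∀ a b : N, a ^ 3 = 1 → b ^ 3 = 1 → π a = π b → a = b)
    (hsurj : ∀ x ∈ Perm5.L5, ∃ a : N, a ^ 3 = 1 ∧ π a = x)
    (hgen : Subgroup.closure {a : N | a ^ 3 = 1} = ⊤) :
    ∃ ψ : G →* Equiv.Perm (Fin 5), (∀ n : N, ψ n = π n) ∧
      ψ.ker = Subgroup.centralizer (N : Set G) := by
  classical
  let c : G → (N →* N) := fun g => (MulAut.conjNormal g : MulAut N).toMonoidHom
  have hc_one : ∀ a, c 1 a = a := fun a => Subtype.ext (by simp [c, MulAut.conjNormal_apply])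
  have hc_mul : ∀ g h a, c (g * h) a = c g (c h a) := fun g h a =>
    Subtype.ext (by simp [c, MulAut.conjNormal_apply, mul_assoc])
  have hc_inj : ∀ g, Function.Injective (c g) := fun g => (MulAut.conjNormal g : MulAut N).injective
  have hc3 : ∀ g a, a ^ 3 = 1 → c g a ^ 3 = 1 := fun g a ha => by rw [← map_pow, ha, map_one]
  have hkiff : ∀ g n, π n = 1 ↔ π (c g n) = 1 := by
    intro g n
    refine ⟨hker g n, fun h => ?_⟩
    have h' : π (c g⁻¹ (c g n)) = 1 := hker g⁻¹ _ h
    rwa [← hc_mul, inv_mul_cancel, hc_one] at h'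
  have hmemL : ∀ a : N, a ^ 3 = 1 → a ≠ 1 → π a ∈ Perm5.L5 := fun a ha ha1 =>
    Perm5.mem_L5 _ (fun h => ha1 (hinj a 1 ha (one_pow 3) (by rw [h, map_one])))
      (by rw [← map_pow, ha, map_one])
  let Q : G → Fin 5 → Fin 5 → Prop := fun g p q =>
    ∀ a : N, a ^ 3 = 1 → a ≠ 1 → (π a p = p ↔ π (c g a) q = q)
  have huniq : ∀ g p q q', Q g p q → Q g p q' → q = q' := by
    intro g p q q' h h'
    refine Perm5.point_ext q q' fun v hv => ?_
    obtain ⟨b, hb, rfl⟩ := hsurj v hv
    have hb1 : b ≠ 1 := fun e => (Perm5.L5_isThreeCycle _ hv).1 (by rw [e, map_one])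
    have hcb : c g (c g⁻¹ b) = b := by rw [← hc_mul, mul_inv_cancel, hc_one]
    have e1 := h (c g⁻¹ b) (hc3 _ b hb) (fun e => hb1 (by rw [← hcb, e, map_one]))
    have e2 := h' (c g⁻¹ b) (hc3 _ b hb) (fun e => hb1 (by rw [← hcb, e, map_one]))
    rw [hcb] at e1 e2
    exact e1.symm.trans e2
  have hex : ∀ g p, ∃ q, Q g p q := by
    intro g p
    obtain ⟨t, ht, u, hu, hR, hp⟩ := Perm5.exists_pair_of_point p
    obtain ⟨T, hT, rfl⟩ := hsurj t ht
    obtain ⟨U, hU, rfl⟩ := hsurj u hu
    have hT1 : T ≠ 1 := fun e => (Perm5.L5_isThreeCycle _ ht).1 (by rw [e, map_one])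
    have hU1 : U ≠ 1 := fun e => (Perm5.L5_isThreeCycle _ hu).1 (by rw [e, map_one])
    have hR' : Perm5.R5 (π (c g T)) (π (c g U)) := by
      unfold Perm5.R5 at hR ⊢
      simp only [← map_mul, ← map_pow] at hR ⊢
      exact ⟨fun h => hR.1 ((hkiff g _).2 h), (hkiff g _).1 hR.2⟩
    obtain ⟨q, hq⟩ := Perm5.exists_point_of_R5 _
      (hmemL _ (hc3 g T hT) fun e => hT1 (hc_inj g (e.trans (map_one _).symm))) _
      (hmemL _ (hc3 g U hU) fun e => hU1 (hc_inj g (e.trans (map_one _).symm))) hR'
    refine ⟨q, fun a ha ha1 => ?_⟩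
    have key : ∀ (T U a : N), T ^ 3 = 1 → U ^ 3 = 1 → a ^ 3 = 1 →
        (π a ∈ Perm5.star (π T) (π U) ↔ a ∈ starList T U) := by
      intro T U a hT hU ha
      rw [star_eq, ← starList_map, List.mem_map]
      refine ⟨?_, fun h => ⟨a, h, rfl⟩⟩
      rintro ⟨b, hb, hbe⟩
      exact (hinj b a (pow_three_of_mem_starList hT hU hb) ha hbe) ▸ hb
    rw [hp _ (hmemL a ha ha1), key T U a hT hU ha,
      hq _ (hmemL _ (hc3 g a ha) fun e => ha1 (hc_inj g (e.trans (map_one _).symm))),
      key _ _ _ (hc3 g T hT) (hc3 g U hU) (hc3 g a ha), ← starList_map,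
      List.mem_map_of_injective (hc_inj g)]
  choose F hF using hex
  have hF_mul : ∀ g h p, F (g * h) p = F g (F h p) := fun g h p =>
    huniq (g * h) p _ _ (hF _ p) (fun a ha ha1 => by
      rw [hc_mul]
      exact (hF h p a ha ha1).trans
        (hF g (F h p) _ (hc3 h a ha) fun e => ha1 (hc_inj h (e.trans (map_one _).symm))))
  have hF_one : ∀ p, F 1 p = p := fun p =>
    huniq 1 p _ _ (hF 1 p) (fun a _ _ => by rw [hc_one])
  letI act : MulAction G (Fin 5) :=
    { smul := F, one_smul := hF_one, mul_smul := hF_mul }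
  refine ⟨MulAction.toPermHom G (Fin 5), ?_, ?_⟩
  · intro n
    refine Equiv.ext fun p => ?_
    refine huniq (n : G) p _ _ (hF (n : G) p) ?_
    intro a _ _
    have hcn : c (n : G) a = n * a * n⁻¹ := Subtype.ext (by simp [c, MulAut.conjNormal_apply])
    rw [hcn, map_mul, map_mul, map_inv, Equiv.Perm.mul_apply, Equiv.Perm.mul_apply,
      Equiv.Perm.coe_inv, Equiv.symm_apply_apply]
    exact ⟨fun h => by rw [h], fun h => (π n).injective h⟩
  · ext k
    constructor
    · intro hk
      have hall : ∀ a : N, a ^ 3 = 1 → c k a = a := by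
        intro a ha
        rcases eq_or_ne a 1 with rfl | ha1
        · exact map_one _
        refine hinj _ _ (hc3 k a ha) ha ?_
        have hψn : ∀ n : N, MulAction.toPermHom G (Fin 5) (n : G) = π n := by
          intro n
          refine Equiv.ext fun p => ?_
          refine huniq (n : G) p _ _ (hF (n : G) p) ?_
          intro a _ _
          have hcn : c (n : G) a = n * a * n⁻¹ :=
            Subtype.ext (by simp [c, MulAut.conjNormal_apply])
          rw [hcn, map_mul, map_mul, map_inv, Equiv.Perm.mul_apply, Equiv.Perm.mul_apply,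
            Equiv.Perm.coe_inv, Equiv.symm_apply_apply]
          exact ⟨fun h => by rw [h], fun h => (π n).injective h⟩
        rw [← hψn, ← hψn]
        have : ((c k a : N) : G) = k * a * k⁻¹ := by simp [c, MulAut.conjNormal_apply]
        rw [this, map_mul, map_mul, map_inv, MonoidHom.mem_ker.1 hk, one_mul, inv_one, mul_one]
      rw [Subgroup.mem_centralizer_iff]
      intro x hx
      have hmem : (⟨x, hx⟩ : N) ∈ Subgroup.closure {a : N | a ^ 3 = 1} := hgen ▸ Subgroup.mem_top _
      have key : ∀ a ∈ Subgroup.closure {a : N | a ^ 3 = 1}, c k a = a := by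
        intro a ha
        induction ha using Subgroup.closure_induction with
        | mem a ha => exact hall a ha
        | one => exact map_one _
        | mul a b _ _ h1 h2 => rw [map_mul, h1, h2]
        | inv a _ h1 => rw [map_inv, h1]
      have := congrArg Subtype.val (key _ hmem)
      simp [c, MulAut.conjNormal_apply] at this
      exact (mul_inv_eq_iff_eq_mul.1 this).symm
    · intro hk
      rw [MonoidHom.mem_ker]
      refine Equiv.ext fun p => ?_
      refine huniq k p _ _ (hF k p) fun a _ _ => ?_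
      have : c k a = a := Subtype.ext (by
        simp only [c, MulEquiv.coe_toMonoidHom, MulAut.conjNormal_apply]
        rw [← Subgroup.mem_centralizer_iff.1 hk a a.2, mul_inv_cancel_right])
      rw [this]
      rfl

theorem derived_facts_four : (∀ a b : Equiv.Perm (Fin 4), Equiv.Perm.sign a = 1 →
      Equiv.Perm.sign b = 1 → (a * b * a⁻¹ * b⁻¹) ^ 2 = 1) ∧
    ∀ a b : Equiv.Perm (Fin 4), Equiv.Perm.sign a = 1 → Equiv.Perm.sign b = 1 → a ^ 2 = 1 →
      b ^ 2 = 1 → a * b = b * a := by
  constructor <;> decide +kernel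

/-- A perfect group acts trivially on at most four points. -/
theorem hom_perm_small_eq_one {G : Type*} [Group G] (hperf : commutator G = ⊤)
    (f : G →* Equiv.Perm (Fin 4)) : f = 1 := by
  have hcl : Subgroup.closure (commutatorSet G) = ⊤ := by rw [← commutator_eq_closure, hperf]
  have hsign : ∀ g, Equiv.Perm.sign (f g) = 1 := by
    intro g
    have h : g ∈ (Equiv.Perm.sign.comp f).ker :=
      Abelianization.commutator_subset_ker _ (hperf ▸ Subgroup.mem_top g)
    exact h
  have hsq : ∀ g, f g ^ 2 = 1 := by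
    intro g
    have hg : g ∈ Subgroup.closure (commutatorSet G) := hcl ▸ Subgroup.mem_top g
    induction hg using Subgroup.closure_induction with
    | mem x hx =>
      obtain ⟨a, b, rfl⟩ := hx
      rw [commutatorElement_def, map_mul, map_mul, map_mul, map_inv, map_inv]
      exact derived_facts_four.1 _ _ (hsign a) (hsign b)
    | one => rw [map_one, one_pow]
    | mul x y _ _ hx hy =>
      rw [map_mul, Commute.mul_pow (derived_facts_four.2 _ _ (hsign x) (hsign y) hx hy), hx, hy,
        one_mul]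
    | inv x _ hx => rw [map_inv, inv_pow, hx, inv_one]
  have hle : commutator G ≤ f.ker := by
    rw [commutator_def, Subgroup.commutator_le]
    intro a _ b _
    rw [MonoidHom.mem_ker, map_commutatorElement]
    exact commutatorElement_eq_one_iff_mul_comm.2
      (derived_facts_four.2 _ _ (hsign a) (hsign b) (hsq a) (hsq b))
  exact MonoidHom.ext fun g => MonoidHom.mem_ker.1 (hle (hperf ▸ Subgroup.mem_top g))

/-- A perfect group fixes each point of an invariant set of at most four points. -/
theorem apply_eq_of_small_invariant {G β : Type*} [Group G] (hperf : commutator G = ⊤)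
    (f : G →* Equiv.Perm β) (s : Finset β) (hs : s.card ≤ 4)
    (hinv : ∀ g : G, ∀ x ∈ s, f g x ∈ s) : ∀ g : G, ∀ x ∈ s, f g x = x := by
  have hiff : ∀ g : G, ∀ x, x ∈ s ↔ f g x ∈ s := fun g x => ⟨hinv g x, fun h => by
    have := hinv g⁻¹ _ h
    rwa [map_inv, Equiv.Perm.coe_inv, Equiv.symm_apply_apply] at this⟩
  let θ : G →* Equiv.Perm {x // x ∈ s} :=
    MonoidHom.mk' (fun g => (f g).subtypePerm fun x => (hiff g x).symm)
      (fun a b => Equiv.ext fun x => Subtype.ext (DFunLike.congr_fun (map_mul f a b) (x : β)))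
  obtain ⟨ι⟩ : Nonempty ({x // x ∈ s} ↪ Fin 4) := Function.Embedding.nonempty_of_card_le (by
    simpa using hs)
  have h := hom_perm_small_eq_one hperf ((Equiv.Perm.viaEmbeddingHom ι).comp θ)
  intro g x hx
  have h1 := DFunLike.congr_fun h g
  rw [MonoidHom.comp_apply, MonoidHom.one_apply,
    map_eq_one_iff _ (Equiv.Perm.viaEmbeddingHom_injective ι)] at h1
  exact congrArg Subtype.val (Equiv.congr_fun h1 ⟨x, hx⟩)

/-- The group theoretic form of the theorem of Zassenhaus. -/
theorem exists_five_hom_of_perfect {G : Type*} [Group G] [Finite G] {z : G} (D : FPFData z)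
    (hperf : commutator G = ⊤) [Nontrivial G]
    (hsolv : ∀ K : Subgroup G, ¬ 3 ∣ Nat.card K → Group.IsSolvable K) :
    ∃ π : G →* Equiv.Perm (Fin 5), (∀ g, π g = 1 ↔ (g = 1 ∨ g = z)) ∧
      π.range = alternatingGroup (Fin 5) := by
  classical
  haveI : Fact (Nat.Prime 3) := ⟨Nat.prime_three⟩
  have hnsolv : ¬ Group.IsSolvable G := fun h => by
    have := Group.IsSolvable.commutator_lt_top_of_nontrivial G
    rw [hperf] at this
    exact lt_irrefl _ this
  obtain ⟨y, hy⟩ : ∃ y : G, IsThree y := by
    by_contra hne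
    apply hnsolv
    haveI := hsolv ⊤ (fun hd => by
      rw [Subgroup.card_top] at hd
      obtain ⟨y, hy⟩ := exists_prime_orderOf_dvd_card' 3 hd
      exact hne ⟨y, by rw [← hy]; exact pow_orderOf_eq_one y,
        fun h => by rw [h, orderOf_one] at hy; norm_num at hy⟩)
    exact Group.isSolvable_of_surjective (f := (Subgroup.topEquiv : (⊤ : Subgroup G) ≃* G).toMonoidHom)
      Subgroup.topEquiv.surjective
  -- no element of order three is central
  have hnc : ∀ x : G, IsThree x → ∃ g : G, g * x * g⁻¹ ≠ x := by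
    intro x hx
    by_contra hcen
    push Not at hcen
    have hcomm : ∀ g, g * x = x * g := fun g => mul_inv_eq_iff_eq_mul.1 (hcen g)
    obtain ⟨P⟩ := (inferInstance : Nonempty (Sylow 3 G))
    have hcyc : IsCyclic (P : Subgroup G) := by
      refine (TwoGroups.isCyclic_or_quaternion P.isPGroup' ?_).resolve_right
        fun h => by omega
      intro a b ha hb
      have h3 : ∀ u : (P : Subgroup G), orderOf u = 3 → IsThree (u : G) := fun u hu =>
        ⟨by rw [← SubgroupClass.coe_pow, orderOf_dvd_iff_pow_eq_one.1 hu.dvd]; rfl, fun e => by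
          rw [show u = 1 from Subtype.ext e, orderOf_one] at hu; norm_num at hu⟩
      have ha' := D.comm_three _ _ (h3 a ha) hx (hcomm a)
      have hb' := D.comm_three _ _ (h3 b hb) hx (hcomm b)
      rcases ha' with ea | ea <;> rcases hb' with eb | eb
      · rw [show a = b from Subtype.ext (ea.trans eb.symm)]; exact Subgroup.mem_zpowers b
      · rw [show b = a⁻¹ from Subtype.ext (by simp [ea, eb])]
        exact inv_mem (Subgroup.mem_zpowers a)
      · rw [show b = a⁻¹ from Subtype.ext (by simp [ea, eb])]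
        exact inv_mem (Subgroup.mem_zpowers a)
      · rw [show a = b from Subtype.ext (ea.trans eb.symm)]; exact Subgroup.mem_zpowers b
    letI : CommGroup (P : Subgroup G) := IsCyclic.commGroup
    let t : G →* (P : Subgroup G) := MonoidHom.transfer (MonoidHom.id (P : Subgroup G))
    have hxP : x ∈ (P : Subgroup G) := by
      have hpx : IsPGroup 3 (Subgroup.zpowers x) :=
        IsPGroup.of_card (n := 1) (by rw [Nat.card_zpowers, orderOf_eq_prime hx.1 hx.2, pow_one])
      haveI : (Subgroup.zpowers x).Normal := ⟨fun u hu g => by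
        obtain ⟨i, rfl⟩ := Subgroup.mem_zpowers_iff.1 hu
        rw [(Commute.zpow_right (hcomm g) i).eq, mul_inv_cancel_right]
        exact Subgroup.zpow_mem _ (Subgroup.mem_zpowers x) i⟩
      exact hpx.le_sylow_of_normal P (Subgroup.mem_zpowers x)
    have hkey : ∀ (n : ℕ) (g₀ : G), g₀⁻¹ * x ^ n * g₀ ∈ (P : Subgroup G) →
        g₀⁻¹ * x ^ n * g₀ = x ^ n := fun n g₀ _ => by
      rw [mul_assoc, ← (Commute.pow_right (hcomm g₀) n).eq, inv_mul_cancel_left]
    have h1 : t x = 1 := by
      have hx' : x ∈ t.ker :=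
        Abelianization.commutator_subset_ker t (hperf ▸ Subgroup.mem_top x)
      exact hx'
    rw [show t x = _ from MonoidHom.transfer_eq_pow (MonoidHom.id (P : Subgroup G)) x hkey] at h1
    have h2 : x ^ (P : Subgroup G).index = 1 := congrArg Subtype.val h1
    have h3 := orderOf_dvd_of_pow_eq_one h2
    rw [orderOf_eq_prime hx.1 hx.2] at h3
    exact P.not_dvd_index h3
  let cj : G →* Equiv.Perm G := (MulAction.toPermHom (MulAut G) G).comp MulAut.conj
  have hconj : ∀ g x : G, cj g x = g * x * g⁻¹ := fun _ _ => rfl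
  have hpair : ∀ x : G, IsThree x → ¬ ∀ g : G, g * x * g⁻¹ = x ∨ g * x * g⁻¹ = x⁻¹ := by
    intro x hx hall
    obtain ⟨g, hg⟩ := hnc x hx
    apply hg
    rw [← hconj]
    refine apply_eq_of_small_invariant hperf cj {x, x⁻¹} (Finset.card_le_two.trans (by norm_num))
      ?_ g x (by simp)
    intro h u hu
    simp only [Finset.mem_insert, Finset.mem_singleton] at hu ⊢
    rw [hconj]
    rcases hu with rfl | rfl
    · exact hall h
    · rw [← conj_inv]
      rcases hall h with e | e <;> rw [e]
      · exact Or.inr rfl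
      · exact Or.inl (inv_inv x)
  rcases order_three_dichotomy D hy with ⟨a, b, ha, hb, hya, hyb, hab, hall⟩ | hall | ⟨a, ha, hya, hall⟩
  rotate_left
  · -- a unique subgroup of order three
    exact absurd (fun g => D.comm_three _ _ (hy.conj g) hy (hall _ (hy.conj g))) (hpair y hy)
  · -- four subgroups of order three
    exfalso
    let s : Finset (Subgroup G) := {Subgroup.zpowers y, Subgroup.zpowers a,
      Subgroup.zpowers (y * a * y⁻¹), Subgroup.zpowers (y⁻¹ * a * y)}
    have hs : ∀ w, IsThree w → Subgroup.zpowers w ∈ s := by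
      intro w hw
      simp only [s, Finset.mem_insert, Finset.mem_singleton]
      rcases hall w hw with rfl | rfl | (h | h | h) | (h | h | h)
      · exact Or.inl rfl
      · exact Or.inl (Subgroup.zpowers_inv)
      · exact Or.inr (Or.inl (by rw [h]))
      · exact Or.inr (Or.inr (Or.inl (by rw [h])))
      · exact Or.inr (Or.inr (Or.inr (by rw [h])))
      · exact Or.inr (Or.inl (by rw [← h, Subgroup.zpowers_inv]))
      · exact Or.inr (Or.inr (Or.inl (by rw [← h, Subgroup.zpowers_inv])))
      · exact Or.inr (Or.inr (Or.inr (by rw [← h, Subgroup.zpowers_inv])))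
    let cjS : G →* Equiv.Perm (Subgroup G) :=
      (MulAction.toPermHom (MulAut G) (Subgroup G)).comp MulAut.conj
    have hsmul : ∀ (g w : G), cjS g (Subgroup.zpowers w) = Subgroup.zpowers (g * w * g⁻¹) := fun g w => by
      show (Subgroup.zpowers w).map (MulAut.conj g).toMonoidHom = _
      rw [MonoidHom.map_zpowers]
      rfl
    have hsinv : ∀ g : G, ∀ W ∈ s, cjS g W ∈ s := by
      intro g W hW
      simp only [s, Finset.mem_insert, Finset.mem_singleton] at hW
      rcases hW with rfl | rfl | rfl | rfl <;> rw [hsmul] <;> refine hs _ (IsThree.conj ?_ g)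
      · exact hy
      · exact ha
      · exact ha.conj y
      · simpa using ha.conj y⁻¹
    refine hpair y hy fun g => ?_
    have h := apply_eq_of_small_invariant hperf cjS s (Finset.card_le_four) hsinv g _ (hs y hy)
    rw [hsmul] at h
    obtain ⟨i, hi⟩ := Subgroup.mem_zpowers_iff.1 (h.le (Subgroup.mem_zpowers (g * y * g⁻¹)))
    exact D.comm_three _ _ (hy.conj g) hy (by
      rw [← hi]; exact (Commute.zpow_self y i).eq)
  -- the main case
  set S : Set G := {y, a, b} with hS
  set N := Subgroup.closure S with hN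
  obtain ⟨π₀, hπ₀⟩ : ∃ π : N →* Equiv.Perm (Fin 5),
      ∀ g, π g = 1 ↔ ((g : G) = 1 ∨ (g : G) = z) := D.triple y a b hy ha hb hya hyb
  have hS3 : ∀ w ∈ S, IsThree w := by
    rintro w (rfl | rfl | rfl)
    exacts [hy, ha, hb]
  haveI hNn : N.Normal := by
    refine ⟨fun n hn g => ?_⟩
    induction hn using Subgroup.closure_induction with
    | mem w hw => exact hall _ ((hS3 w hw).conj g)
    | one => simp
    | mul u v _ _ hu hv => rw [← conj_mul]; exact mul_mem hu hv
    | inv u _ hu => rw [← conj_inv]; exact inv_mem hu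
  have hker : ∀ (g : G) (n : N), π₀ n = 1 → π₀ (MulAut.conjNormal g n) = 1 := by
    intro g n hn
    rw [hπ₀] at hn ⊢
    rcases hn with e | e
    · left; simp [MulAut.conjNormal_apply, e]
    · right; rw [MulAut.conjNormal_apply, e, D.central, mul_inv_cancel_right]
  have hinj : ∀ u v : N, u ^ 3 = 1 → v ^ 3 = 1 → π₀ u = π₀ v → u = v := by
    intro u v hu hv h
    have h1 : π₀ (u * v⁻¹) = 1 := by rw [map_mul, h, ← map_mul, mul_inv_cancel, map_one]
    rcases (hπ₀ _).1 h1 with e | e
    · exact mul_inv_eq_one.1 (Subtype.ext e)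
    · exfalso
      have e' : (u : G) = z * v := mul_inv_eq_iff_eq_mul.1 e
      have h3 : (u : G) ^ 3 = 1 := congrArg Subtype.val hu
      rw [e', Commute.mul_pow (D.central _).symm,
        show (v : G) ^ 3 = 1 from congrArg Subtype.val hv, mul_one,
        show z ^ 3 = z * z * z by simp [pow_succ], D.sq_z, one_mul] at h3
      exact D.z_ne h3
  let Y : N := ⟨y, Subgroup.subset_closure (by simp [hS])⟩
  let A : N := ⟨a, Subgroup.subset_closure (by simp [hS])⟩
  let B : N := ⟨b, Subgroup.subset_closure (by simp [hS])⟩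
  have hrange : ∀ x ∈ Perm5.L5, x ∈ π₀.range := by
    intro x hx
    have := Perm5.mem_closure_triple (image_mem D π₀ hπ₀ (a := Y) hy)
      (image_mem D π₀ hπ₀ (a := A) ha) ((relZ_iff D π₀ hπ₀ (a := Y) (b := A)).2 hya)
      (image_mem D π₀ hπ₀ (a := B) hb) ((relZ_iff D π₀ hπ₀ (a := Y) (b := B)).2 hyb)
      (fun h => hab ((blk_iff D π₀ hπ₀ (y := Y) (a := A) (b := B) ha hb).1 h)) hx
    refine (Subgroup.closure_le _).2 ?_ this
    rintro _ (rfl | rfl | rfl) <;> exact ⟨_, rfl⟩
  have hsurj : ∀ x ∈ Perm5.L5, ∃ u : N, u ^ 3 = 1 ∧ π₀ u = x := by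
    intro x hx
    obtain ⟨u, rfl⟩ := hrange x hx
    have hx3 := (Perm5.L5_isThreeCycle _ hx).2
    refine ⟨u ^ 4, ?_, by rw [map_pow, pow_succ, hx3, one_mul]⟩
    rw [← map_pow] at hx3
    rw [← pow_mul, show 4 * 3 = 3 * 2 * 2 from rfl, pow_mul, pow_mul]
    apply Subtype.ext
    rcases (hπ₀ _).1 hx3 with e | e <;> rw [SubgroupClass.coe_pow, SubgroupClass.coe_pow, e]
    · simp
    · rw [show z ^ 2 = 1 by rw [pow_two, D.sq_z], one_pow]; rfl
  have hgen : Subgroup.closure {u : N | u ^ 3 = 1} = ⊤ := by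
    rw [eq_top_iff]
    rintro ⟨u, hu⟩ -
    induction hu using Subgroup.closure_induction with
    | mem w hw => exact Subgroup.subset_closure (Subtype.ext (hS3 w hw).1)
    | one => exact Subgroup.one_mem _
    | mul _ _ _ _ h1 h2 => exact Subgroup.mul_mem _ h1 h2
    | inv _ _ h1 => exact Subgroup.inv_mem _ h1
  obtain ⟨ψ, hψN, hψker⟩ := exists_five_action π₀ hker hinj hsurj hgen
  have hAle : alternatingGroup (Fin 5) ≤ π₀.range := Perm5.alternating_le hrange
  have heven : ψ.range ≤ alternatingGroup (Fin 5) := by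
    rintro _ ⟨g, rfl⟩
    have h : g ∈ (Equiv.Perm.sign.comp ψ).ker :=
      Abelianization.commutator_subset_ker _ (hperf ▸ Subgroup.mem_top g)
    exact h
  set C := Subgroup.centralizer (N : Set G) with hC
  have hdecomp : ∀ g : G, ∃ n ∈ N, ∃ k ∈ C, g = n * k := by
    intro g
    obtain ⟨n, hn⟩ := hAle (heven ⟨g, rfl⟩)
    refine ⟨n, n.2, (n : G)⁻¹ * g, ?_, (mul_inv_cancel_left _ _).symm⟩
    rw [← hψker, MonoidHom.mem_ker, map_mul, map_inv, hψN, hn, inv_mul_cancel]
  have hC3 : ¬ 3 ∣ Nat.card C := by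
    intro hd
    obtain ⟨w, hw⟩ := exists_prime_orderOf_dvd_card' 3 hd
    have hw3 : IsThree (w : G) := ⟨by rw [← hw, ← SubgroupClass.coe_pow, pow_orderOf_eq_one]; rfl,
      fun e => by rw [show w = 1 from Subtype.ext e, orderOf_one] at hw; norm_num at hw⟩
    have hwy : (w : G) * y = y * w :=
      (Subgroup.mem_centralizer_iff.1 w.2 y Y.2).symm
    have hay : a * y = y * a := by
      rcases D.comm_three _ _ hw3 hy hwy with e | e
      · have := Subgroup.mem_centralizer_iff.1 w.2 a A.2
        rwa [e] at this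
      · have h1 := Subgroup.mem_centralizer_iff.1 w.2 a A.2
        rw [e] at h1
        calc a * y = y * (y⁻¹ * a) * y := by group
          _ = y * a := by rw [← h1]; group
    have h2 : (y * a) ^ 3 = 1 := by rw [Commute.mul_pow hay.symm, hy.1, ha.1, one_mul]
    apply D.z_ne
    have h4 : (y * a) ^ 4 = 1 := by
      rw [show (y * a) ^ 4 = (y * a * (y * a)) * (y * a * (y * a)) by simp [pow_succ, mul_assoc],
        hya, D.sq_z]
    rw [pow_succ, h2, one_mul] at h4
    rw [← hya, h4, one_mul]
  haveI := hsolv C hC3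
  have hsurjQ : Function.Surjective ((QuotientGroup.mk' N).comp C.subtype) := by
    intro q
    obtain ⟨g, rfl⟩ := QuotientGroup.mk'_surjective N q
    obtain ⟨n, hn, k, hk, rfl⟩ := hdecomp g
    refine ⟨⟨k, hk⟩, ?_⟩
    show QuotientGroup.mk' N k = QuotientGroup.mk' N (n * k)
    rw [map_mul, show QuotientGroup.mk' N n = 1 from (QuotientGroup.eq_one_iff n).2 hn, one_mul]
  haveI := Group.isSolvable_of_surjective hsurjQ
  have hNtop : N = ⊤ := by
    by_contra hne
    haveI : Nontrivial (G ⧸ N) := QuotientGroup.nontrivial_iff.2 hne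
    have hlt := Group.IsSolvable.commutator_lt_top_of_nontrivial (G ⧸ N)
    apply hlt.ne
    rw [commutator_def, ← Subgroup.map_top_of_surjective _ (QuotientGroup.mk'_surjective N),
      ← Subgroup.map_commutator, ← commutator_def, hperf]
  let e : G ≃* N := ((MulEquiv.subgroupCongr hNtop).trans Subgroup.topEquiv).symm
  have he : ∀ g, ((e g : N) : G) = g := fun g => rfl
  refine ⟨π₀.comp e.toMonoidHom, fun g => by
    rw [MonoidHom.comp_apply, MulEquiv.coe_toMonoidHom, hπ₀, he], ?_⟩
  apply le_antisymm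
  · rintro _ ⟨g, rfl⟩
    rw [MonoidHom.comp_apply, ← hψN]
    exact heven ⟨_, rfl⟩
  · intro x hx
    obtain ⟨n, rfl⟩ := hAle hx
    exact ⟨n, congrArg π₀ (Subtype.ext (he n))⟩

end CfsgLib.PermGroups
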