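import Cfsg.Agent.Lib.PermGroups.Zassenhaus.Rep
import Cfsg.Agent.Lib.PermGroups.Zassenhaus.Perfect
import Cfsg.Agent.Lib.NormalPComplement.Frobenius
import Cfsg.Agent.Lib.TwoGroups.Aut
import Cfsg.Agent.Lib.SchurMult.SL2
import Cfsg.Agent.Lib.ClassicalLinear.Generation
import Cfsg.Agent.S0253
import Cfsg.Agent.Lib.SL2.Card
import Mathlib.GroupTheory.SpecificGroups.ZGroup
import Mathlib.GroupTheory.SpecificGroups.Quaternion

/-!
The theorem of Zassenhaus: a perfect non-trivial group of fixed-point-free automorphisms is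
`SL(2,5)`.
-/

set_option autoImplicit false
set_option linter.style.haveILetI false
set_option linter.unusedSectionVars false

open scoped MatrixGroups commutatorElement

namespace CfsgLib.PermGroups

/-- The map given by the images of the two generators. -/
def q8map (u v : QuaternionGroup 2) : QuaternionGroup 2 → QuaternionGroup 2
  | QuaternionGroup.a i => u ^ i.val
  | QuaternionGroup.xa i => v * u ^ i.val

theorem q8map_iterate : ∀ u v : QuaternionGroup 2,
    (∀ x y, q8map u v (x * y) = q8map u v x * q8map u v y) → (∀ x, q8map u v x = 1 → x = 1) →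
      ∀ x, (q8map u v)^[12] x = x := by
  decide +kernel

theorem mulAut_q8_pow_twelve (φ : MulAut (QuaternionGroup 2)) : φ ^ 12 = 1 := by
  have heq : ∀ x, φ x = q8map (φ (.a 1)) (φ (.xa 0)) x := by
    intro x
    cases x with
    | a i =>
      show _ = φ (.a 1) ^ i.val
      rw [← map_pow, QuaternionGroup.a_one_pow, ZMod.natCast_zmod_val]
    | xa i =>
      show _ = φ (.xa 0) * φ (.a 1) ^ i.val
      rw [← map_pow, ← map_mul, QuaternionGroup.a_one_pow, ZMod.natCast_zmod_val,
        QuaternionGroup.xa_mul_a, zero_add]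
  have h := q8map_iterate (φ (.a 1)) (φ (.xa 0)) (fun x y => by rw [← heq, ← heq, ← heq, map_mul])
    (fun x hx => φ.injective (by rw [heq x, hx, map_one]))
  have hit : ∀ (n : ℕ) x, (φ ^ n) x = (q8map (φ (.a 1)) (φ (.xa 0)))^[n] x := by
    intro n
    induction n with
    | zero => intro x; rfl
    | succ n ih => intro x; rw [pow_succ', MulAut.mul_apply, ih, heq, Function.iterate_succ_apply']
  ext x
  rw [hit, h]
  rfl

section Rep

variable {k : Type*} [Field k] {V : Type*} [AddCommGroup V] [Module k V] [Nontrivial V]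
  {G : Type*} [Group G] [Finite G] (ρ : G →* Module.End k V)
  (hfpf : ∀ g : G, g ≠ 1 → ∀ v : V, ρ g v = v → v = 0) (hcard : (Nat.card G : k) ≠ 0)

include hfpf hcard

/-- The Sylow subgroups are cyclic or generalised quaternion. -/
theorem fpf_isCyclic_or_quaternion {p : ℕ} [hp : Fact p.Prime] (Q : Subgroup G) (hQ : IsPGroup p Q) :
    IsCyclic Q ∨ (p = 2 ∧ ∃ m : ℕ, 1 ≤ m ∧ Nonempty (Q ≃* QuaternionGroup (2 ^ m))) := by
  refine TwoGroups.isCyclic_or_quaternion hQ fun a b ha hb => ?_
  have hpk : (p : k) ≠ 0 := by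
    intro h0
    have h1 := orderOf_dvd_natCard (a : G)
    rw [Subgroup.orderOf_coe, ha] at h1
    obtain ⟨d, hd⟩ := h1
    exact hcard (by rw [hd, Nat.cast_mul, h0, zero_mul])
  haveI : Nontrivial Q := ⟨⟨a, 1, fun h => by
    rw [h, orderOf_one] at ha; exact hp.out.one_lt.ne ha⟩⟩
  haveI := hQ.center_nontrivial
  obtain ⟨j, hj, hjc⟩ := (hQ.to_subgroup (Subgroup.center Q)).nontrivial_iff_card.1 inferInstance
  obtain ⟨c, hc⟩ := exists_prime_orderOf_dvd_card' (G := Subgroup.center Q) p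
    (hjc ▸ dvd_pow_self p (by omega))
  have key : ∀ u v : Q, orderOf u = p → orderOf v = p → u * v = v * u → v ∈ Subgroup.zpowers u := by
    intro u v hu hv huv
    obtain ⟨i, hi⟩ := Subgroup.mem_zpowers_iff.1 (fpf_comm_prime ρ hfpf hpk
      (a := (u : G)) (b := (v : G)) (by rw [Subgroup.orderOf_coe, hu])
      (by rw [Subgroup.orderOf_coe, hv]) (congrArg Subtype.val huv))
    exact ⟨i, Subtype.ext (by simpa using hi)⟩
  have hc' : orderOf (c : Q) = p := by rw [Subgroup.orderOf_coe]; exact hc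
  exact (Subgroup.zpowers_le.2 (key a c ha hc' (Subgroup.mem_center_iff.1 c.2 a)))
    (key c b hc' hb (Subgroup.mem_center_iff.1 c.2 b).symm)

theorem fpf_isZGroup_of_odd (hodd : ¬ 2 ∣ Nat.card G) : IsZGroup G := by
  refine ⟨fun p hp P => ?_⟩
  haveI : Fact p.Prime := ⟨hp⟩
  rcases fpf_isCyclic_or_quaternion ρ hfpf hcard (P : Subgroup G) P.isPGroup' with
    h | ⟨rfl, m, hm, -⟩
  · exact h
  · have h1 : Nat.card (P : Subgroup G) = 1 := by
      rw [P.card_eq_multiplicity, Nat.factorization_eq_zero_of_not_dvd hodd, pow_zero]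
    haveI := (Nat.card_eq_one_iff_unique.1 h1).1
    exact isCyclic_of_subsingleton

theorem fpf_solvable_of_not_three_dvd (h3 : ¬ 3 ∣ Nat.card G) : Group.IsSolvable G := by
  haveI : Fact (Nat.Prime 2) := ⟨Nat.prime_two⟩
  have hF : NormalPComplement.FrobeniusCondition 2 G := by
    intro Q hQ g hg hcop
    let φ : MulAut Q := Q.normalizerMonoidHom ⟨g, hg⟩
    suffices hφ : φ = 1 by
      have hk : (⟨g, hg⟩ : Subgroup.normalizer (Q : Set G)) ∈ Q.normalizerMonoidHom.ker :=
        MonoidHom.mem_ker.2 hφ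
      rw [Subgroup.normalizerMonoidHom_ker] at hk
      exact hk
    have hgk : φ ^ orderOf g = 1 := by
      rw [← map_pow,
        show (⟨g, hg⟩ : Subgroup.normalizer (Q : Set G)) ^ orderOf g = 1 from
          Subtype.ext (pow_orderOf_eq_one g), map_one]
    have hodd : Odd (orderOf g) := Nat.not_even_iff_odd.1 fun he => by
      have := Nat.dvd_gcd he.two_dvd (dvd_refl 2)
      rw [hcop] at this
      norm_num at this
    rcases fpf_isCyclic_or_quaternion ρ hfpf hcard Q hQ with hc | ⟨-, m, hm, ⟨e⟩⟩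
    · haveI := hc
      obtain ⟨N, hN⟩ := TwoGroups.isPGroup_mulAut_of_isCyclic hQ φ
      exact TwoGroups.eq_one_of_two_pow hodd hgk hN
    rcases eq_or_lt_of_le hm with rfl | hm2
    · have h12 : φ ^ 12 = 1 := by
        have h := mulAut_q8_pow_twelve ((MulAut.congr e) φ)
        rw [← map_pow] at h
        exact (MulAut.congr e).injective (h.trans (map_one _).symm)
      have hd := Nat.dvd_gcd (orderOf_dvd_of_pow_eq_one hgk) (orderOf_dvd_of_pow_eq_one h12)
      have hg3 : ¬ 3 ∣ orderOf g := fun hd3 => h3 (hd3.trans (orderOf_dvd_natCard g))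
      have hco : (orderOf g).Coprime 12 := by
        rw [show (12 : ℕ) = 2 * 2 * 3 from rfl]
        exact (hcop.mul_right hcop).mul_right
          ((Nat.prime_three.coprime_iff_not_dvd.2 hg3).symm)
      rw [hco.gcd_eq_one, Nat.dvd_one, orderOf_eq_one_iff] at hd
      exact hd
    · obtain ⟨N, hN⟩ := (TwoGroups.isPGroup_mulAut_congr e.symm
        (TwoGroups.isPGroup_mulAut_quaternion hm2)) φ
      exact TwoGroups.eq_one_of_two_pow hodd hgk hN
  have hc := NormalPComplement.hasNormalPComplement_of_frobeniusCondition hF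
  have hq := NormalPComplement.hasNormalPComplement_iff_isPGroup_quotient.1 hc
  set O := Cfsg.pPrimeCore 2 G
  haveI : IsZGroup O := by
    refine fpf_isZGroup_of_odd (ρ.comp O.subtype) (fun g hg v hv => hfpf g
      (fun h => hg (Subtype.ext h)) v hv) ?_ (Cores.not_dvd_card_pPrimeCore (G := G) (p := 2))
    intro h0
    obtain ⟨d, hd⟩ := O.card_subgroup_dvd_card
    exact hcard (by rw [hd, Nat.cast_mul, h0, zero_mul])
  haveI : Group.IsSolvable (G ⧸ O) := by
    haveI := hq.isNilpotent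
    infer_instance
  exact (Group.isSolvable_iff_subgroup_quotient O).2 ⟨inferInstance, inferInstance⟩

theorem fpf_solvable_subgroup (K : Subgroup G) (h3 : ¬ 3 ∣ Nat.card K) : Group.IsSolvable K := by
  refine fpf_solvable_of_not_three_dvd (ρ.comp K.subtype) (fun g hg v hv => hfpf g
    (fun h => hg (Subtype.ext h)) v hv) ?_ h3
  intro h0
  obtain ⟨d, hd⟩ := K.card_subgroup_dvd_card
  exact hcard (by rw [hd, Nat.cast_mul, h0, zero_mul])

/-- The five-point representation of a perfect group with a fixed-point-free representation. -/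
theorem fpf_perfect_five_hom [IsAlgClosed k] [FiniteDimensional k V] [Nontrivial G]
    (hperf : commutator G = ⊤) :
    ∃ (z : G) (π : G →* Equiv.Perm (Fin 5)), z ≠ 1 ∧ z * z = 1 ∧ (∀ g, g * z = z * g) ∧
      (∀ g, π g = 1 ↔ (g = 1 ∨ g = z)) ∧ π.range = alternatingGroup (Fin 5) := by
  haveI : Fact (Nat.Prime 2) := ⟨Nat.prime_two⟩
  obtain ⟨z, hz⟩ : ∃ z : G, orderOf z = 2 := by
    refine exists_prime_orderOf_dvd_card' 2 ?_
    by_contra hodd
    haveI := fpf_isZGroup_of_odd ρ hfpf hcard hodd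
    have := Group.IsSolvable.commutator_lt_top_of_nontrivial G
    rw [hperf] at this
    exact lt_irrefl _ this
  have hz2 : z * z = 1 := by rw [← pow_two, ← hz]; exact pow_orderOf_eq_one z
  have hz1 : z ≠ 1 := fun h => by rw [h, orderOf_one] at hz; norm_num at hz
  have D : FPFData z :=
    { sq_z := hz2
      z_ne := hz1
      involution := fun g hg => by
        rcases eq_or_ne g 1 with h | h
        · exact Or.inl h
        · exact Or.inr (fpf_involution_unique ρ hfpf hg h hz2 hz1)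
      comm_three := fun x y hx hy hxy => fpf_comm_three ρ hfpf hx.1 hx.2 hy.1 hy.2 hxy
      pair := fun y x hy hx hne => hasFiveHom_pair ρ hfpf hcard hz2 hz1 hy.1 hy.2 hx.1 hx.2 hne
      triple := fun y a b hy ha hb hya hyb =>
        hasFiveHom_triple ρ hfpf hcard hz2 hz1 hy.1 hy.2 ha.1 ha.2 hb.1 hb.2 hya hyb }
  obtain ⟨π, hπ, hr⟩ := exists_five_hom_of_perfect D hperf (fpf_solvable_subgroup ρ hfpf hcard)
  exact ⟨z, π, hz1, hz2, D.central, hπ, hr⟩

end Rep

/-- The five-point representation, for a group of fixed-point-free automorphisms. -/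
theorem exists_five_hom_of_fpf_perfect {K : Type*} [Group K] [Finite K] [Nontrivial K] {G : Type*}
    [Group G] [Finite G] [Nontrivial G] (φ : G →* MulAut K)
    (hfpf : ∀ g : G, g ≠ 1 → ∀ k : K, φ g k = k → k = 1) (hperf : commutator G = ⊤) :
    ∃ (z : G) (π : G →* Equiv.Perm (Fin 5)), z ≠ 1 ∧ z * z = 1 ∧ (∀ g, g * z = z * g) ∧
      (∀ g, π g = 1 ↔ (g = 1 ∨ g = z)) ∧ π.range = alternatingGroup (Fin 5) := by
  obtain ⟨r, n, _, ρ, hn, hρ, hcard⟩ := exists_fpf_rep φ hfpf
  haveI : Nonempty (Fin n) := ⟨⟨0, hn⟩⟩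
  exact fpf_perfect_five_hom ρ hρ hcard hperf

theorem two_facts_five : (2 : ZMod 5) ≠ 0 ∧ (2 : ZMod 5) ^ 2 ≠ 1 := by decide

/-- A perfect central extension of `A₅` by a group of order two is `SL(2,5)`. -/
theorem equiv_sl_two_five {G : Type*} [Group G] [Finite G] (hperf : commutator G = ⊤) {z : G}
    (hz : z * z = 1) (hz1 : z ≠ 1) (hzc : ∀ g, g * z = z * g) (π : G →* Equiv.Perm (Fin 5))
    (hπ : ∀ g, π g = 1 ↔ (g = 1 ∨ g = z)) (hr : π.range = alternatingGroup (Fin 5)) :
    Nonempty (G ≃* SL(2, ZMod 5)) := by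
  haveI : Fact (Nat.Prime 5) := ⟨Nat.prime_five⟩
  obtain ⟨e⟩ := Cfsg.Agent.S0253.result (F := ZMod 5) (ZMod.card 5)
  let σ₀ : SL(2, ZMod 5) →* alternatingGroup (Fin 5) :=
    e.toMonoidHom.comp (QuotientGroup.mk' (Subgroup.center SL(2, ZMod 5)))
  have hσs : Function.Surjective σ₀ := e.surjective.comp (QuotientGroup.mk'_surjective _)
  have hperfS : commutator SL(2, ZMod 5) = ⊤ :=
    CfsgLib.ClassicalLinear.commutator_sl_eq_top (Or.inr ⟨(2 : ZMod 5),
      two_facts_five.1, two_facts_five.2⟩)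
  let π' : G →* alternatingGroup (Fin 5) := π.codRestrict _ fun g => hr.le ⟨g, rfl⟩
  have hπs : Function.Surjective π' := fun x => by
    obtain ⟨g, hg⟩ := hr.ge x.2
    exact ⟨g, Subtype.ext hg⟩
  let Γ : Subgroup (G × SL(2, ZMod 5)) :=
    (π'.comp (MonoidHom.fst G SL(2, ZMod 5))).eqLocus (σ₀.comp (MonoidHom.snd G SL(2, ZMod 5)))
  let Z : Subgroup (G × SL(2, ZMod 5)) := π'.ker.prod σ₀.ker
  have hZc : Z ≤ Subgroup.center (G × SL(2, ZMod 5)) := by
    rintro ⟨a, b⟩ ⟨ha, hb⟩
    have ha' : a = 1 ∨ a = z := (hπ a).1 (congrArg Subtype.val ha)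
    have hb' : b ∈ Subgroup.center SL(2, ZMod 5) := by
      have h1 : e (QuotientGroup.mk' _ b) = 1 := hb
      exact (QuotientGroup.eq_one_iff b).1 (e.injective (h1.trans (map_one e).symm))
    rw [Subgroup.mem_center_iff]
    rintro ⟨c, d⟩
    refine Prod.ext ?_ (Subgroup.mem_center_iff.1 hb' d)
    rcases ha' with rfl | rfl
    · simp
    · exact hzc c
  have hfstΓ : ∀ g : G, ∃ x ∈ Γ, x.1 = g := fun g => by
    obtain ⟨s, hs⟩ := hσs (π' g)
    exact ⟨(g, s), hs.symm, rfl⟩
  have hsndΓ : ∀ s, ∃ x ∈ Γ, x.2 = s := fun s => by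
    obtain ⟨g, hg⟩ := hπs (σ₀ s)
    exact ⟨(g, s), hg, rfl⟩
  set D := ⁅Γ, Γ⁆ with hD
  have hDfst : D.map (MonoidHom.fst G SL(2, ZMod 5)) = ⊤ := by
    rw [hD, Subgroup.map_commutator, show Γ.map (MonoidHom.fst G SL(2, ZMod 5)) = ⊤ from
      eq_top_iff.2 fun g _ => hfstΓ g, ← commutator_def, hperf]
  have hDsnd : D.map (MonoidHom.snd G SL(2, ZMod 5)) = ⊤ := by
    rw [hD, Subgroup.map_commutator, show Γ.map (MonoidHom.snd G SL(2, ZMod 5)) = ⊤ from
      eq_top_iff.2 fun g _ => hsndΓ g, ← commutator_def, hperfS]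
  have hDΓ : D ≤ Γ := Subgroup.commutator_le_self Γ
  -- `Γ` is `D` times central elements, so `D` is perfect
  have hdec : ∀ x ∈ Γ, ∃ d ∈ D, ∃ c ∈ Z, x = d * c := by
    intro x hx
    obtain ⟨d, hd, hdx⟩ := hDfst.ge (Subgroup.mem_top x.1)
    refine ⟨d, hd, d⁻¹ * x, ⟨?_, ?_⟩, (mul_inv_cancel_left d x).symm⟩
    · show π' (d.1⁻¹ * x.1) = 1
      rw [show d.1 = x.1 from hdx, inv_mul_cancel, map_one]
    · show σ₀ (d.2⁻¹ * x.2) = 1
      have h1 : π' d.1 = σ₀ d.2 := hDΓ hd
      have h2 : π' x.1 = σ₀ x.2 := hx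
      rw [map_mul, map_inv, ← h1, ← h2, show d.1 = x.1 from hdx, inv_mul_cancel]
  have hDD : ⁅D, D⁆ = D := by
    refine le_antisymm (Subgroup.commutator_le_self D) ?_
    conv_lhs => rw [hD]
    rw [Subgroup.commutator_le]
    intro x hx y hy
    obtain ⟨a, ha, c, hc, rfl⟩ := hdec x hx
    obtain ⟨b, hb, c', hc', rfl⟩ := hdec y hy
    have e1 : ∀ (u : G × SL(2, ZMod 5)), u * c = c * u := Subgroup.mem_center_iff.1 (hZc hc)
    have e2 : ∀ (u : G × SL(2, ZMod 5)), u * c' = c' * u := Subgroup.mem_center_iff.1 (hZc hc')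
    have : ⁅a * c, b * c'⁆ = ⁅a, b⁆ := by
      rw [commutatorElement_def, commutatorElement_def, mul_inv_rev, mul_inv_rev]
      calc a * c * (b * c') * (c⁻¹ * a⁻¹) * (c'⁻¹ * b⁻¹)
          = a * (c * (b * c') * c⁻¹) * a⁻¹ * c'⁻¹ * b⁻¹ := by group
        _ = a * b * (c' * a⁻¹ * c'⁻¹) * b⁻¹ := by rw [← e1]; group
        _ = _ := by rw [← e2]; group
    rw [this]
    exact Subgroup.commutator_mem_commutator ha hb
  let σ : D →* SL(2, ZMod 5) := (MonoidHom.snd G SL(2, ZMod 5)).comp D.subtype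
  have hσsurj : Function.Surjective σ := fun s => by
    obtain ⟨d, hd, rfl⟩ := hDsnd.ge (Subgroup.mem_top s)
    exact ⟨⟨d, hd⟩, rfl⟩
  have hker : σ.ker ≤ Subgroup.center D := by
    intro d hd
    have hd2 : (d : G × SL(2, ZMod 5)).2 = 1 := hd
    have hdZ : (d : G × SL(2, ZMod 5)) ∈ Z := by
      refine ⟨?_, ?_⟩
      · show π' (d : G × SL(2, ZMod 5)).1 = 1
        have h : π' (d : G × SL(2, ZMod 5)).1 = σ₀ (d : G × SL(2, ZMod 5)).2 := hDΓ d.2
        rw [h, hd2, map_one]
      · show σ₀ (d : G × SL(2, ZMod 5)).2 = 1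
        rw [hd2, map_one]
    exact Subgroup.mem_center_iff.2 fun u =>
      Subtype.ext (Subgroup.mem_center_iff.1 (hZc hdZ) u)
  have hcomm : commutator D = ⊤ := by
    apply Subgroup.map_injective D.subtype_injective
    rw [commutator_def, Subgroup.map_commutator, ← MonoidHom.range_eq_map, Subgroup.range_subtype,
      hDD]
  have hstem : Cfsg.IsStemExtension σ := ⟨hσsurj, hker, by rw [hcomm]; exact le_top⟩
  obtain ⟨-, hu⟩ := CfsgLib.SchurMult.sl2_hasCyclicSchurMultiplier_one (F := ZMod 5)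
    (by rw [ZMod.card]; norm_num) (by rw [ZMod.card]; norm_num)
  let es : Shrink.{0} D ≃* D := Shrink.mulEquiv
  haveI : Finite (Shrink.{0} D) := Finite.of_equiv _ es.symm.toEquiv
  have hstem' : Cfsg.IsStemExtension (σ.comp es.toMonoidHom) := by
    refine ⟨hσsurj.comp es.surjective, fun x hx => Subgroup.mem_center_iff.2 fun u => es.injective ?_,
      ?_⟩
    · rw [map_mul, map_mul]
      exact Subgroup.mem_center_iff.1 (hker hx) (es u)
    · intro x _
      have h1 : es x ∈ commutator D := hcomm ▸ Subgroup.mem_top _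
      have h2 := Subgroup.mem_map_of_mem es.symm.toMonoidHom h1
      rw [commutator_def, Subgroup.map_commutator, Subgroup.map_top_of_surjective _ es.symm.surjective,
        ← commutator_def] at h2
      simpa using h2
  obtain ⟨q, hq⟩ := hu (Shrink.{0} D) (σ.comp es.toMonoidHom) hstem'
  have hinj : Function.Injective σ := by
    have h1 : Function.Injective (σ.comp es.toMonoidHom) := by
      rw [injective_iff_map_eq_one]
      intro x hx
      obtain ⟨a, ha⟩ := hq ⟨x, hx⟩
      have ha1 : a = 1 := Subsingleton.elim _ _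
      rw [ha1, map_one] at ha
      exact (congrArg Subtype.val ha).symm
    intro u v h
    have := @h1 (es.symm u) (es.symm v) (by simpa using h)
    exact es.symm.injective this
  let eD : D ≃* SL(2, ZMod 5) := MulEquiv.ofBijective σ ⟨hinj, hσsurj⟩
  let τ : D →* G := (MonoidHom.fst G SL(2, ZMod 5)).comp D.subtype
  have hτ : Function.Surjective τ := fun g => by
    obtain ⟨d, hd, rfl⟩ := hDfst.ge (Subgroup.mem_top g)
    exact ⟨⟨d, hd⟩, rfl⟩
  have hcardG : Nat.card G = 2 * Nat.card (alternatingGroup (Fin 5)) := by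
    have h1 := Subgroup.card_mul_index π'.ker
    rw [Subgroup.index_ker, MonoidHom.range_eq_top.2 hπs, Subgroup.card_top] at h1
    have h2 : Nat.card π'.ker = 2 := by
      have hset : (π'.ker : Set G) = {1, z} := by
        ext g
        simp only [SetLike.mem_coe, MonoidHom.mem_ker, Set.mem_insert_iff, Set.mem_singleton_iff,
          ← hπ g]
        exact ⟨fun h => congrArg Subtype.val h, fun h => Subtype.ext h⟩
      have h3 : (π'.ker : Set G).ncard = 2 := by rw [hset, Set.ncard_pair (Ne.symm hz1)]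
      rw [← Nat.card_coe_set_eq] at h3
      exact h3
    rw [← h1, h2]
  have hA : Nat.card (alternatingGroup (Fin 5)) = 60 := by
    have h := two_mul_nat_card_alternatingGroup (α := Fin 5)
    rw [Nat.card_perm, Nat.card_eq_fintype_card (α := Fin 5), Fintype.card_fin,
      show Nat.factorial 5 = 120 from rfl] at h
    omega
  have hbij : Function.Bijective τ := by
    rw [Nat.bijective_iff_surjective_and_card]
    refine ⟨hτ, ?_⟩
    rw [Nat.card_congr eD.toEquiv, hcardG, hA, CfsgLib.SL2.card_SL, Nat.card_eq_fintype_card,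
      ZMod.card]
    norm_num
  exact ⟨(MulEquiv.ofBijective τ hbij).symm.trans eD⟩

end CfsgLib.PermGroups

namespace CfsgLib.PermGroups

open scoped MatrixGroups

/-- Zassenhaus: a perfect non-trivial group acting fixed-point-freely on a finite group is
`SL(2,5)`. -/
theorem equiv_sl_two_five_of_fpf_perfect {K : Type*} [Group K] [Finite K] [Nontrivial K]
    {G : Type*} [Group G] [Finite G] [Nontrivial G] (φ : G →* MulAut K)
    (hfpf : ∀ g : G, g ≠ 1 → ∀ k : K, φ g k = k → k = 1) (hperf : commutator G = ⊤) :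
    Nonempty (G ≃* SL(2, ZMod 5)) := by
  obtain ⟨z, π, hz1, hz, hzc, hπ, hr⟩ := exists_five_hom_of_fpf_perfect φ hfpf hperf
  exact equiv_sl_two_five hperf hz hz1 hzc π hπ hr

end CfsgLib.PermGroups
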