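import Cfsg.Agent.Lib.PermGroups.Zassenhaus.Klein
import Mathlib.LinearAlgebra.Eigenspace.Triangularizable
import Mathlib.LinearAlgebra.Matrix.ToLin

/-!
Fixed-point-free representations: two and three generated subgroups by elements of order three
live in `SL₂`.
-/

set_option autoImplicit false
set_option linter.style.haveILetI false
set_option linter.unusedSectionVars false

open scoped MatrixGroups

namespace CfsgLib.PermGroups

variable {k : Type*} [Field k] {V : Type*} [AddCommGroup V] [Module k V] [Nontrivial V]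
  {G : Type*} [Group G] [Finite G] (ρ : G →* Module.End k V)
  (hfpf : ∀ g : G, g ≠ 1 → ∀ v : V, ρ g v = v → v = 0)

/-- The subgroup generated by `S` maps to the permutations of five letters with kernel `{1, z}`. -/
def HasFiveHom {G : Type*} [Group G] (z : G) (S : Set G) : Prop :=
  ∃ π : Subgroup.closure S →* Equiv.Perm (Fin 5), ∀ g, π g = 1 ↔ ((g : G) = 1 ∨ (g : G) = z)

include hfpf

theorem fpf_eq_one {g : G} {v : V} (hv : v ≠ 0) (h : ρ g v = v) : g = 1 :=
  by_contra fun hg => hv (hfpf g hg v h)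

theorem fpf_eq_of_apply_eq {g h : G} {v : V} (hv : v ≠ 0) (e : ρ g v = ρ h v) : g = h := by
  have h1 : ρ (h⁻¹ * g) v = v := by
    rw [map_mul, Module.End.mul_apply, e, ← Module.End.mul_apply, ← map_mul, inv_mul_cancel,
      map_one, Module.End.one_apply]
  exact (inv_mul_eq_one.1 (fpf_eq_one ρ hfpf hv h1)).symm

theorem fpf_injective : Function.Injective ρ := by
  intro g h e
  obtain ⟨v, hv⟩ := exists_ne (0 : V)
  exact fpf_eq_of_apply_eq ρ hfpf hv (by rw [e])

/-- An involution acts as `-1`. -/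
theorem fpf_involution {g : G} (hg : g * g = 1) (hne : g ≠ 1) : ρ g = -1 := by
  ext v
  have h2 : ρ g (ρ g v) = v := by
    rw [← Module.End.mul_apply, ← map_mul, hg, map_one, Module.End.one_apply]
  have h0 : ρ g v + v = 0 := hfpf g hne _ (by rw [map_add, h2, add_comm])
  rw [LinearMap.neg_apply, Module.End.one_apply]
  exact eq_neg_of_add_eq_zero_left h0

theorem fpf_involution_unique {g h : G} (hg : g * g = 1) (hne : g ≠ 1) (hh : h * h = 1)
    (hne' : h ≠ 1) : g = h :=
  fpf_injective ρ hfpf (by rw [fpf_involution ρ hfpf hg hne, fpf_involution ρ hfpf hh hne'])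

/-- An element of order three satisfies `X² + X + 1 = 0`. -/
theorem fpf_order_three {y : G} (hy : y ^ 3 = 1) (hne : y ≠ 1) :
    ρ y * ρ y + ρ y + 1 = 0 := by
  ext v
  refine hfpf y hne _ ?_
  have h3 : ρ y (ρ y (ρ y v)) = v := by
    rw [← Module.End.mul_apply, ← Module.End.mul_apply, ← map_mul, ← map_mul,
      show y * y * y = y ^ 3 by simp [pow_succ, mul_assoc], hy, map_one, Module.End.one_apply]
  simp only [LinearMap.add_apply, Module.End.mul_apply, Module.End.one_apply, map_add, h3]
  abel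

/-- Commuting elements of order three generate the same subgroup. -/
theorem fpf_comm_three {x y : G} (hx : x ^ 3 = 1) (hx1 : x ≠ 1) (hy : y ^ 3 = 1) (hy1 : y ≠ 1)
    (hxy : x * y = y * x) : x = y ∨ x = y⁻¹ := by
  by_contra hne
  push Not at hne
  obtain ⟨h1, h2⟩ := hne
  have hX := fpf_order_three ρ hfpf hx hx1
  have hY := fpf_order_three ρ hfpf hy hy1
  have hc : ρ x * ρ y = ρ y * ρ x := by rw [← map_mul, hxy, map_mul]
  have hy3 : ρ y * (ρ y * ρ y) = 1 := by
    rw [← map_mul, ← map_mul, show y * (y * y) = y ^ 3 by simp [pow_succ, mul_assoc], hy, map_one]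
  obtain ⟨v, hv⟩ := exists_ne (0 : V)
  have key : (ρ x - ρ y) * (ρ x - ρ y * ρ y) = 0 := by
    rw [sub_mul, mul_sub, mul_sub, ← mul_assoc, hc, hy3, mul_assoc, hc, ← mul_assoc]
    calc ρ x * ρ x - ρ y * ρ y * ρ x - (ρ y * ρ x - 1)
        = (ρ x * ρ x + ρ x + 1) - (ρ y * ρ y + ρ y + 1) * ρ x := by noncomm_ring
      _ = 0 := by rw [hX, hY]; simp
  have hw : ρ x v - ρ (y * y) v ≠ 0 := fun h0 => h2 (by
    have := fpf_eq_of_apply_eq ρ hfpf hv (sub_eq_zero.1 h0)
    rw [this]
    calc y * y = y⁻¹ * (y ^ 3) := by simp [pow_succ, mul_assoc]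
      _ = y⁻¹ := by rw [hy, mul_one])
  refine h1 (fpf_eq_of_apply_eq ρ hfpf hw (sub_eq_zero.1 ?_))
  have := LinearMap.congr_fun key v
  simpa [Module.End.mul_apply, map_mul] using this

/-- Commuting elements of the same prime order generate the same subgroup. -/
theorem fpf_comm_prime {p : ℕ} [Fact p.Prime] (hpk : (p : k) ≠ 0) {a b : G} (ha : orderOf a = p)
    (hb : orderOf b = p) (hab : a * b = b * a) : b ∈ Subgroup.zpowers a := by
  by_contra hne
  have hp : p.Prime := Fact.out
  have hgeo : ∀ g : G, g ≠ 1 → g ^ p = 1 → ∑ i ∈ Finset.range p, ρ g ^ i = 0 := by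
    intro g hg hgp
    ext v
    refine hfpf g hg _ ?_
    have h := mul_geom_sum (ρ g) p
    rw [← map_pow, hgp, map_one, sub_self] at h
    have := LinearMap.congr_fun h v
    simp only [Module.End.mul_apply, LinearMap.sub_apply, Module.End.one_apply,
      LinearMap.zero_apply] at this
    exact sub_eq_zero.1 this
  have hc : ∀ m : ℕ, a ^ m * b ≠ 1 := fun m h => hne (by
    rw [← inv_eq_of_mul_eq_one_right h]
    exact inv_mem (Subgroup.pow_mem _ (Subgroup.mem_zpowers a) m))
  have hcp : ∀ m : ℕ, (a ^ m * b) ^ p = 1 := fun m => by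
    rw [Commute.mul_pow ((Commute.pow_left hab m) : Commute (a ^ m) b), ← pow_mul, mul_comm m p,
      pow_mul, ← ha, pow_orderOf_eq_one, one_pow, one_mul, ha, ← hb, pow_orderOf_eq_one]
  have h1 : ∑ m ∈ Finset.range p, ∑ t ∈ Finset.range p, ρ (a ^ m * b) ^ t = 0 :=
    Finset.sum_eq_zero fun m _ => hgeo _ (hc m) (hcp m)
  have h2 : ∀ t ∈ Finset.range p, ∑ m ∈ Finset.range p, ρ (a ^ m * b) ^ t =
      if t = 0 then (p : Module.End k V) else 0 := by
    intro t ht
    split_ifs with h0
    · subst h0; simp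
    · have hat : a ^ t ≠ 1 := fun h => h0 (Nat.eq_zero_of_dvd_of_lt
        (ha ▸ orderOf_dvd_of_pow_eq_one h) (Finset.mem_range.1 ht))
      calc ∑ m ∈ Finset.range p, ρ (a ^ m * b) ^ t
          = ∑ m ∈ Finset.range p, ρ (a ^ t) ^ m * ρ (b ^ t) := by
            refine Finset.sum_congr rfl fun m _ => ?_
            rw [← map_pow, ← map_pow, ← map_mul,
              Commute.mul_pow ((Commute.pow_left hab m) : Commute (a ^ m) b), ← pow_mul, ← pow_mul,
              mul_comm m t]
        _ = (∑ m ∈ Finset.range p, ρ (a ^ t) ^ m) * ρ (b ^ t) := by rw [Finset.sum_mul]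
        _ = 0 := by
            rw [hgeo _ hat (by rw [← pow_mul, mul_comm, pow_mul, ← ha, pow_orderOf_eq_one,
              one_pow]), zero_mul]
  rw [Finset.sum_comm, Finset.sum_congr rfl h2, Finset.sum_ite_eq',
    if_pos (Finset.mem_range.2 hp.pos)] at h1
  obtain ⟨v, hv⟩ := exists_ne (0 : V)
  have := LinearMap.congr_fun h1 v
  rw [LinearMap.zero_apply, ← Nat.smul_one_eq_cast p, LinearMap.smul_apply,
    Module.End.one_apply, ← Nat.cast_smul_eq_nsmul k, smul_eq_zero] at this
  exact hv (this.resolve_left hpk)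

/-- A plane invariant under order-three elements, each not commuting with some other one, gives an
embedding of the generated subgroup in `SL₂`. -/
theorem exists_hom_sl_two_of_plane {S : Set G} (hS : ∀ s ∈ S, s ^ 3 = 1 ∧ s ≠ 1)
    (hnc : ∀ s ∈ S, ∃ t ∈ S, s * t ≠ t * s) {e f : V} (he : e ≠ 0)
    (hinv : ∀ s ∈ S, ρ s e ∈ Submodule.span k {e, f} ∧ ρ s f ∈ Submodule.span k {e, f})
    (hSne : S.Nonempty) :
    ∃ θ : Subgroup.closure S →* SL(2, k), Function.Injective θ ∧
      ∀ g : Subgroup.closure S, θ g = -1 → ρ g e = -e := by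
  classical
  set W := Submodule.span k ({e, f} : Set V) with hW
  have heW : e ∈ W := Submodule.subset_span (by simp)
  have hli : LinearIndependent k ![e, f] := by
    rw [LinearIndependent.pair_iff' he]
    intro c hc
    have hW1 : ∀ w ∈ W, ∃ d : k, d • e = w := by
      intro w hw
      obtain ⟨a, b, rfl⟩ := Submodule.mem_span_pair.1 hw
      exact ⟨a + b * c, by rw [← hc, add_smul, mul_smul]⟩
    obtain ⟨s, hs⟩ := hSne
    obtain ⟨t, ht, hst⟩ := hnc s hs
    obtain ⟨a, ha⟩ := hW1 _ (hinv s hs).1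
    obtain ⟨b, hb⟩ := hW1 _ (hinv t ht).1
    apply hst
    refine fpf_eq_of_apply_eq ρ hfpf he ?_
    rw [map_mul, map_mul, Module.End.mul_apply, Module.End.mul_apply, ← ha, ← hb, map_smul,
      map_smul, ← ha, ← hb, smul_smul, smul_smul, mul_comm]
  let bW : Module.Basis (Fin 2) k W := by
    have hr : W = Submodule.span k (Set.range ![e, f]) := by
      rw [hW]; congr 1; simp [Set.pair_comm]
    exact (Module.Basis.span hli).map (LinearEquiv.ofEq _ _ hr.symm)
  haveI : FiniteDimensional k W := Module.Basis.finiteDimensional_of_finite bW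
  have hWinv : ∀ g ∈ Subgroup.closure S, ∀ w ∈ W, ρ g w ∈ W := by
    intro g hg
    induction hg using Subgroup.closure_induction with
    | mem s hs =>
      intro w hw
      obtain ⟨a, b, rfl⟩ := Submodule.mem_span_pair.1 hw
      rw [map_add, map_smul, map_smul]
      exact W.add_mem (W.smul_mem _ (hinv s hs).1) (W.smul_mem _ (hinv s hs).2)
    | one => intro w hw; rw [map_one]; exact hw
    | mul x y _ _ hx hy => intro w hw; rw [map_mul]; exact hx _ (hy _ hw)
    | inv x _ hx =>
      intro w hw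
      obtain ⟨n, hn⟩ : ∃ n : ℕ, x⁻¹ = x ^ n := ⟨orderOf x - 1, by
        rw [inv_eq_iff_mul_eq_one, ← pow_succ',
          Nat.sub_add_cancel (orderOf_pos x), pow_orderOf_eq_one]⟩
      rw [hn]
      clear hn
      induction n with
      | zero => rw [pow_zero, map_one]; exact hw
      | succ n ih => rw [pow_succ', map_mul]; exact hx _ ih
  let r : Subgroup.closure S →* Module.End k W :=
    { toFun := fun g => (ρ g).restrict (hWinv g g.2)
      map_one' := LinearMap.ext fun w => Subtype.ext (by simp)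
      map_mul' := fun a b => LinearMap.ext fun w => Subtype.ext (by simp [map_mul]) }
  let M : Subgroup.closure S →* Matrix (Fin 2) (Fin 2) k :=
    ((LinearMap.toMatrixAlgEquiv bW : Module.End k W ≃ₐ[k] _).toAlgHom.toRingHom.toMonoidHom).comp r
  have hdet3 : ∀ s : Subgroup.closure S, (s : G) ∈ S → (M s).det = 1 := by
    intro s hs
    obtain ⟨hs3, hs1⟩ := hS _ hs
    have hq : M s * M s + M s + 1 = 0 := by
      have h0 : r s * r s + r s + 1 = 0 := LinearMap.ext fun w => Subtype.ext (by
        have := LinearMap.congr_fun (fpf_order_three ρ hfpf hs3 hs1) (w : V)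
        simpa [r] using this)
      have := congrArg (LinearMap.toMatrixAlgEquiv bW) h0
      simpa [M, map_add, map_mul] using this
    have hns : ∀ c : k, M s ≠ c • 1 := by
      intro c hc
      have hrs : r s = c • 1 := (LinearMap.toMatrixAlgEquiv bW).injective (by
        rw [map_smul, map_one]; exact hc)
      obtain ⟨t, ht, hst⟩ := hnc _ hs
      apply hst
      refine fpf_eq_of_apply_eq ρ hfpf he ?_
      have h1 : ρ s e = c • e := by
        have := congrArg Subtype.val (LinearMap.congr_fun hrs ⟨e, heW⟩)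
        simpa [r] using this
      have h2 : ρ s (ρ t e) = c • ρ t e := by
        have := congrArg Subtype.val (LinearMap.congr_fun hrs ⟨ρ t e, (hinv t ht).1⟩)
        simpa [r] using this
      rw [map_mul, map_mul, Module.End.mul_apply, Module.End.mul_apply, h1, h2, map_smul]
    have h00 := congrFun (congrFun hq 0) 0
    have h01 := congrFun (congrFun hq 0) 1
    have h10 := congrFun (congrFun hq 1) 0
    have h11 := congrFun (congrFun hq 1) 1
    simp [Matrix.mul_apply] at h00 h01 h10 h11
    rw [Matrix.det_fin_two]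
    have htr : M s 0 0 + M s 1 1 = -1 := by
      by_contra htr
      have htr' : M s 0 0 + M s 1 1 + 1 ≠ 0 := fun h => htr (eq_neg_of_add_eq_zero_left h)
      have e01 : M s 0 1 = 0 := by
        rcases mul_eq_zero.1 (show (M s 0 0 + M s 1 1 + 1) * M s 0 1 = 0 by
          linear_combination h01) with h | h
        · exact absurd h htr'
        · exact h
      have e10 : M s 1 0 = 0 := by
        rcases mul_eq_zero.1 (show (M s 0 0 + M s 1 1 + 1) * M s 1 0 = 0 by
          linear_combination h10) with h | h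
        · exact absurd h htr'
        · exact h
      have e00 : M s 0 0 = M s 1 1 := by
        rcases mul_eq_zero.1 (show (M s 0 0 + M s 1 1 + 1) * (M s 0 0 - M s 1 1) = 0 by
          linear_combination h00 - h11) with h | h
        · exact absurd h htr'
        · exact sub_eq_zero.1 h
      exact hns (M s 0 0) (by ext i j; fin_cases i <;> fin_cases j <;> simp [e01, e10, e00])
    linear_combination -h00 + (M s 0 0) * htr
  have hdet : ∀ g : Subgroup.closure S, (M g).det = 1 := by
    rintro ⟨g, hg⟩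
    induction hg using Subgroup.closure_induction with
    | mem s hs => exact hdet3 _ hs
    | one =>
      show (M (1 : Subgroup.closure S)).det = 1
      rw [map_one, Matrix.det_one]
    | mul x y hx hy hx' hy' =>
      show (M ((⟨x, hx⟩ : Subgroup.closure S) * ⟨y, hy⟩)).det = 1
      rw [map_mul, Matrix.det_mul, hx', hy', mul_one]
    | inv x hx hx' =>
      show (M (⟨x, hx⟩ : Subgroup.closure S)⁻¹).det = 1
      have h : (M ((⟨x, hx⟩ : Subgroup.closure S)⁻¹ * ⟨x, hx⟩)).det = 1 := by
        rw [inv_mul_cancel, map_one, Matrix.det_one]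
      rwa [map_mul, Matrix.det_mul, hx', mul_one] at h
  let θ : Subgroup.closure S →* SL(2, k) :=
    { toFun := fun g => ⟨M g, hdet g⟩
      map_one' := Subtype.ext (map_one M)
      map_mul' := fun a b => Subtype.ext (map_mul M a b) }
  have hMr : ∀ (g : Subgroup.closure S) (c : k), M g = c • 1 → ρ g e = c • e := by
    intro g c hg
    have hrg : r g = c • 1 := (LinearMap.toMatrixAlgEquiv bW).injective (by
      rw [map_smul, map_one]; exact hg)
    have := congrArg Subtype.val (LinearMap.congr_fun hrg ⟨e, heW⟩)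
    simpa [r] using this
  refine ⟨θ, ?_, fun g hg => ?_⟩
  · rw [← MonoidHom.ker_eq_bot_iff, eq_bot_iff]
    intro g hg
    rw [MonoidHom.mem_ker] at hg
    have := hMr g 1 (by rw [one_smul]; exact congrArg Subtype.val hg)
    rw [one_smul] at this
    exact Subgroup.mem_bot.2 (Subtype.ext (fpf_eq_one ρ hfpf he this))
  · have h1 := congrArg Subtype.val hg
    simp only [Matrix.SpecialLinearGroup.coe_neg, Matrix.SpecialLinearGroup.coe_one] at h1
    have := hMr g (-1) (by rw [neg_smul, one_smul]; exact h1)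
    rwa [neg_smul, one_smul] at this

variable [IsAlgClosed k] (hcard : (Nat.card G : k) ≠ 0) {z : G} (hz : z * z = 1) (hz1 : z ≠ 1)

include hcard hz hz1

theorem hasFiveHom_of_plane {S : Set G} (hS : ∀ s ∈ S, s ^ 3 = 1 ∧ s ≠ 1)
    (hnc : ∀ s ∈ S, ∃ t ∈ S, s * t ≠ t * s) {e f : V} (he : e ≠ 0)
    (hinv : ∀ s ∈ S, ρ s e ∈ Submodule.span k {e, f} ∧ ρ s f ∈ Submodule.span k {e, f})
    (hSne : S.Nonempty) : HasFiveHom z S := by
  obtain ⟨θ, hθ, hθneg⟩ := exists_hom_sl_two_of_plane ρ hfpf hS hnc he hinv hSne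
  have hcard' : (Nat.card (Subgroup.closure S) : k) ≠ 0 := by
    intro h0
    obtain ⟨d, hd⟩ := Subgroup.card_subgroup_dvd_card (Subgroup.closure S)
    exact hcard (by rw [hd, Nat.cast_mul, h0, zero_mul])
  have hgen : Subgroup.closure {g : Subgroup.closure S | g ^ 3 = 1} = ⊤ := by
    rw [eq_top_iff]
    rintro ⟨g, hg⟩ -
    induction hg using Subgroup.closure_induction with
    | mem s hs => exact Subgroup.subset_closure (Subtype.ext (hS s hs).1)
    | one => exact Subgroup.one_mem _
    | mul x y hx hy hx' hy' => exact Subgroup.mul_mem _ hx' hy'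
    | inv x hx hx' => exact Subgroup.inv_mem _ hx'
  have hnab : ¬ IsMulCommutative (Subgroup.closure S) := by
    intro hc
    obtain ⟨s, hs⟩ := hSne
    obtain ⟨t, ht, hst⟩ := hnc s hs
    exact hst (congrArg Subtype.val (hc.is_comm.comm
      (⟨s, Subgroup.subset_closure hs⟩ : Subgroup.closure S) ⟨t, Subgroup.subset_closure ht⟩))
  obtain ⟨π, hπ⟩ := exists_perm_five_of_sl_two θ hθ hcard' hgen hnab
  refine ⟨π, fun g => (hπ g).trans ⟨?_, ?_⟩⟩
  · rintro (h | h)
    · exact Or.inl (congrArg Subtype.val (hθ (h.trans (map_one θ).symm)))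
    · refine Or.inr (fpf_eq_of_apply_eq ρ hfpf he ?_)
      rw [hθneg g h, fpf_involution ρ hfpf hz hz1]
      simp
  · intro h
    have h2 : g * g = 1 := by
      rcases h with h | h <;> apply Subtype.ext <;> simp [h, hz]
    by_cases hg1 : θ g = 1
    · exact Or.inl hg1
    refine Or.inr (CfsgLib.SL2.eq_neg_one_of_sq_eq_one ?_ (by rw [pow_two, ← map_mul, h2, map_one]) hg1)
    intro h20
    obtain ⟨d, hd⟩ : 2 ∣ Nat.card G := by
      have := orderOf_dvd_natCard z
      rwa [orderOf_eq_prime (by rw [pow_two, hz]) hz1] at this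
    exact hcard (by rw [hd, Nat.cast_mul, Nat.cast_ofNat, h20, zero_mul])

variable [FiniteDimensional k V]

theorem hasFiveHom_pair {y x : G} (hy : y ^ 3 = 1) (hy1 : y ≠ 1) (hx : x ^ 3 = 1) (hx1 : x ≠ 1)
    (hne : y * x ≠ x * y) : HasFiveHom z ({y, x} : Set G) := by
  set Y := ρ y with hYdef
  set X := ρ x with hXdef
  have hY : Y * Y + Y + 1 = 0 := fpf_order_three ρ hfpf hy hy1
  have hX : X * X + X + 1 = 0 := fpf_order_three ρ hfpf hx hx1
  set C := Y * X + X * Y + Y + X + 1 with hC
  have hCY : C * Y = Y * C := by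
    rw [← sub_eq_zero]
    calc C * Y - Y * C = X * (Y * Y + Y + 1) - (Y * Y + Y + 1) * X := by rw [hC]; noncomm_ring
      _ = 0 := by rw [hY]; simp
  obtain ⟨γ, hγ⟩ := Module.End.exists_eigenvalue C
  have hinv : ∀ v ∈ Module.End.eigenspace C γ, Y v ∈ Module.End.eigenspace C γ := by
    intro v hv
    rw [Module.End.mem_eigenspace_iff] at hv ⊢
    rw [← Module.End.mul_apply, hCY, Module.End.mul_apply, hv, map_smul]
  haveI : Nontrivial (Module.End.eigenspace C γ) := Submodule.nontrivial_iff_ne_bot.2 hγ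
  obtain ⟨ω, hω⟩ := Module.End.exists_eigenvalue (Y.restrict hinv)
  obtain ⟨e', he'⟩ := hω.exists_hasEigenvector
  have hCe : C e' = γ • (e' : V) := Module.End.mem_eigenspace_iff.1 e'.2
  have hYe : Y e' = ω • (e' : V) := congrArg Subtype.val he'.apply_eq_smul
  have he0 : (e' : V) ≠ 0 := fun h => he'.2 (Subtype.ext h)
  have hmem : ∀ a b : k, a • (e' : V) + b • X e' ∈ Submodule.span k ({(e' : V), X e'} : Set V) :=
    fun a b => Submodule.mem_span_pair.2 ⟨a, b, rfl⟩
  refine hasFiveHom_of_plane ρ hfpf hcard hz hz1 ?_ ?_ (e := (e' : V)) (f := X e') he0 ?_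
    ⟨y, by simp⟩
  · rintro s (rfl | rfl)
    exacts [⟨hy, hy1⟩, ⟨hx, hx1⟩]
  · rintro s (rfl | rfl)
    exacts [⟨x, by simp, hne⟩, ⟨y, by simp, Ne.symm hne⟩]
  rintro s (rfl | rfl)
  · refine ⟨by rw [← hYdef, hYe]; simpa using hmem ω 0, ?_⟩
    have h1 : Y (X e') + X (Y e') + Y e' + X e' + e' = γ • (e' : V) := by
      refine Eq.trans ?_ hCe
      simp [hC]
    rw [hYe, map_smul] at h1
    rw [← hYdef]
    convert hmem (γ - ω - 1) (-ω - 1) using 1
    linear_combination (norm := module) h1
  · refine ⟨by rw [← hXdef]; simpa using hmem 0 1, ?_⟩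
    have h1 : X (X e') + X e' + e' = 0 := by
      have := LinearMap.congr_fun hX (e' : V)
      simpa using this
    rw [← hXdef]
    convert hmem (-1) (-1) using 1
    linear_combination (norm := module) h1

theorem hasFiveHom_triple {y a b : G} (hy : y ^ 3 = 1) (hy1 : y ≠ 1) (ha : a ^ 3 = 1) (ha1 : a ≠ 1)
    (hb : b ^ 3 = 1) (hb1 : b ≠ 1) (hya : y * a * (y * a) = z) (hyb : y * b * (y * b) = z) :
    HasFiveHom z ({y, a, b} : Set G) := by
  have hrel : ∀ w : G, w ^ 3 = 1 → y * w * (y * w) = z →
      ρ y * ρ w + ρ w * ρ y + ρ y + ρ w + 1 = 0 ∧ y * w ≠ w * y := by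
    intro w hw hR
    have h4 : w * w * (y * y) = y * w * z := by
      have e1 : (y * w) * (y * w * z) = 1 := by
        rw [← mul_assoc, hR, hz]
      have e2 : (y * w) * (w * w * (y * y)) = 1 := by
        calc (y * w) * (w * w * (y * y)) = y * w ^ 3 * (y * y) := by simp [pow_succ, mul_assoc]
          _ = y ^ 3 := by rw [hw]; simp [pow_succ, mul_assoc]
          _ = 1 := hy
      exact mul_left_cancel (e2.trans e1.symm)
    have hw1 : w ≠ 1 := by
      rintro rfl
      rw [mul_one] at hR
      have h6 : (y * y) * (y * y) = 1 := by rw [hR, hz]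
      rw [show (y * y) * (y * y) = y * y ^ 3 by simp [pow_succ, mul_assoc], hy, mul_one] at h6
      exact hy1 h6
    refine ⟨?_, fun hc => hz1 ?_⟩
    · have h := congrArg ρ h4
      rw [map_mul, map_mul, map_mul, map_mul, map_mul, fpf_involution ρ hfpf hz hz1] at h
      have hW := fpf_order_three ρ hfpf hw hw1
      have hY := fpf_order_three ρ hfpf hy hy1
      calc ρ y * ρ w + ρ w * ρ y + ρ y + ρ w + 1
          = (ρ w * ρ w * (ρ y * ρ y) - ρ y * ρ w * (-1)) -
            (ρ w * ρ w + ρ w + 1) * (ρ y * ρ y) + (ρ w + 1) * (ρ y * ρ y + ρ y + 1) := by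
            noncomm_ring
        _ = 0 := by rw [h, hW, hY]; simp
    · have h3 : (y * w) ^ 3 = 1 := by rw [Commute.mul_pow hc, hy, hw, one_mul]
      have h4' : (y * w) ^ 4 = 1 := by
        calc (y * w) ^ 4 = (y * w * (y * w)) * (y * w * (y * w)) := by simp [pow_succ, mul_assoc]
          _ = 1 := by rw [hR, hz]
      rw [pow_succ, h3, one_mul] at h4'
      rw [← hR, h4', one_mul]
  obtain ⟨eA, hncA⟩ := hrel a ha hya
  obtain ⟨eB, hncB⟩ := hrel b hb hyb
  set Y := ρ y with hYdef
  set A := ρ a with hAdef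
  set B := ρ b with hBdef
  have hY : Y * Y + Y + 1 = 0 := fpf_order_three ρ hfpf hy hy1
  have hA : A * A + A + 1 = 0 := fpf_order_three ρ hfpf ha ha1
  set D := A * B + B * A + A + B + 1 with hD
  have hDY : D * Y = Y * D := by
    rw [← sub_eq_zero]
    calc D * Y - Y * D =
        A * (Y * B + B * Y + Y + B + 1) - (Y * A + A * Y + Y + A + 1) * B
          + (B * (Y * A + A * Y + Y + A + 1) - (Y * B + B * Y + Y + B + 1) * A) := by
          rw [hD]; noncomm_ring
      _ = 0 := by rw [eA, eB]; simp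
  have hDA : D * A = A * D := by
    rw [← sub_eq_zero]
    calc D * A - A * D = B * (A * A + A + 1) - (A * A + A + 1) * B := by rw [hD]; noncomm_ring
      _ = 0 := by rw [hA]; simp
  have hDB : D * B = B * D := by
    have hB : B * B + B + 1 = 0 := fpf_order_three ρ hfpf hb hb1
    rw [← sub_eq_zero]
    calc D * B - B * D = A * (B * B + B + 1) - (B * B + B + 1) * A := by rw [hD]; noncomm_ring
      _ = 0 := by rw [hB]; simp
  set A' := 6 • A - 2 • Y + 2 • (1 : Module.End k V) with hA'
  set B' := 6 • B - 2 • Y + 2 • (1 : Module.End k V) with hB'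
  have hAY : Y * A' + A' * Y + A' = 0 := by
    calc Y * A' + A' * Y + A'
        = 6 • (Y * A + A * Y + Y + A + 1) - 4 • (Y * Y + Y + 1) := by rw [hA']; noncomm_ring
      _ = 0 := by rw [eA, hY]; simp
  have hBY : Y * B' + B' * Y + B' = 0 := by
    calc Y * B' + B' * Y + B'
        = 6 • (Y * B + B * Y + Y + B + 1) - 4 • (Y * Y + Y + 1) := by rw [hB']; noncomm_ring
      _ = 0 := by rw [eB, hY]; simp
  set T := A' * B' with hT
  have hTY : T * Y = Y * T := by
    rw [← sub_eq_zero]
    calc T * Y - Y * T = A' * (Y * B' + B' * Y + B') - (Y * A' + A' * Y + A') * B' := by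
          rw [hT]; noncomm_ring
      _ = 0 := by rw [hAY, hBY]; simp
  have hA'sq : A' * A' = -(24 • (1 : Module.End k V)) := by
    rw [← sub_eq_zero]
    calc A' * A' - -(24 • (1 : Module.End k V)) = 36 • (A * A + A + 1) + 4 • (Y * Y + Y + 1)
        - 12 • (Y * A + A * Y + Y + A + 1) := by rw [hA']; noncomm_ring
      _ = 0 := by rw [hA, hY, eA]; simp
  have hDT : D * T = T * D := by
    have h1 : Commute D A' := by
      refine Commute.add_right (Commute.sub_right (Commute.smul_right ?_ _) (Commute.smul_right ?_ _))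
        (Commute.smul_right (Commute.one_right D) _)
      · exact hDA
      · exact hDY
    have h2 : Commute D B' := by
      refine Commute.add_right (Commute.sub_right (Commute.smul_right ?_ _) (Commute.smul_right ?_ _))
        (Commute.smul_right (Commute.one_right D) _)
      · exact hDB
      · exact hDY
    exact h1.mul_right h2
  obtain ⟨γ, hγ⟩ := Module.End.exists_eigenvalue D
  have hinvY : ∀ v ∈ Module.End.eigenspace D γ, Y v ∈ Module.End.eigenspace D γ := by
    intro v hv
    rw [Module.End.mem_eigenspace_iff] at hv ⊢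
    rw [← Module.End.mul_apply, hDY, Module.End.mul_apply, hv, map_smul]
  haveI : Nontrivial (Module.End.eigenspace D γ) := Submodule.nontrivial_iff_ne_bot.2 hγ
  obtain ⟨ω, hω⟩ := Module.End.exists_eigenvalue (Y.restrict hinvY)
  let E : Submodule k V := Module.End.eigenspace D γ ⊓ Module.End.eigenspace Y ω
  have hEne : E ≠ ⊥ := by
    obtain ⟨e', he'⟩ := hω.exists_hasEigenvector
    intro h
    apply he'.2
    have : (e' : V) ∈ E := ⟨e'.2, Module.End.mem_eigenspace_iff.2
      (congrArg Subtype.val he'.apply_eq_smul)⟩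
    rw [h, Submodule.mem_bot] at this
    exact Subtype.ext this
  have hinvT : ∀ v ∈ E, T v ∈ E := by
    intro v hv
    refine ⟨?_, ?_⟩
    · have h := Module.End.mem_eigenspace_iff.1 hv.1
      rw [SetLike.mem_coe, Module.End.mem_eigenspace_iff, ← Module.End.mul_apply, hDT,
        Module.End.mul_apply, h, map_smul]
    · have h := Module.End.mem_eigenspace_iff.1 hv.2
      rw [SetLike.mem_coe, Module.End.mem_eigenspace_iff, ← Module.End.mul_apply, ← hTY,
        Module.End.mul_apply, h, map_smul]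
  haveI : Nontrivial E := Submodule.nontrivial_iff_ne_bot.2 hEne
  obtain ⟨τ, hτ⟩ := Module.End.exists_eigenvalue (T.restrict hinvT)
  obtain ⟨e', he'⟩ := hτ.exists_hasEigenvector
  have hDe : D e' = γ • (e' : V) := Module.End.mem_eigenspace_iff.1 e'.2.1
  have hYe : Y e' = ω • (e' : V) := Module.End.mem_eigenspace_iff.1 e'.2.2
  have hTe : T e' = τ • (e' : V) := congrArg Subtype.val he'.apply_eq_smul
  have he0 : (e' : V) ≠ 0 := fun h => he'.2 (Subtype.ext h)
  have h24 : (24 : k) ≠ 0 ∧ (6 : k) ≠ 0 := by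
    have h2 : (2 : k) ≠ 0 := fun h0 => by
      obtain ⟨d, hd⟩ : 2 ∣ Nat.card G := by
        have := orderOf_dvd_natCard z
        rwa [orderOf_eq_prime (by rw [pow_two, hz]) hz1] at this
      exact hcard (by rw [hd, Nat.cast_mul, Nat.cast_ofNat, h0, zero_mul])
    have h3 : (3 : k) ≠ 0 := fun h0 => by
      haveI : Fact (Nat.Prime 3) := ⟨Nat.prime_three⟩
      obtain ⟨d, hd⟩ : 3 ∣ Nat.card G := by
        have := orderOf_dvd_natCard y
        rwa [orderOf_eq_prime hy hy1] at this
      exact hcard (by rw [hd, Nat.cast_mul, Nat.cast_ofNat, h0, zero_mul])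
    exact ⟨by rw [show (24 : k) = 2 ^ 3 * 3 by norm_num]; exact mul_ne_zero (pow_ne_zero _ h2) h3,
      by rw [show (6 : k) = 2 * 3 by norm_num]; exact mul_ne_zero h2 h3⟩
  have hmem : ∀ c d : k, c • (e' : V) + d • A e' ∈ Submodule.span k ({(e' : V), A e'} : Set V) :=
    fun c d => Submodule.mem_span_pair.2 ⟨c, d, rfl⟩
  have hAA : A (A e') = -(e' : V) - A e' := by
    have := LinearMap.congr_fun hA (e' : V)
    simp only [LinearMap.add_apply, Module.End.mul_apply, Module.End.one_apply,
      LinearMap.zero_apply] at this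
    linear_combination (norm := module) this
  obtain ⟨c, d, hBe⟩ : ∃ c d : k, B e' = c • (e' : V) + d • A e' := by
    refine ⟨(6 : k)⁻¹ * ((-(24 : k))⁻¹ * τ * (2 - 2 * ω) - (2 - 2 * ω)),
      (-(24 : k))⁻¹ * τ, ?_⟩
    have h1 : (-(24 : k)) • B' e' = τ • A' e' := by
      have : A' (T e') = A' (τ • (e' : V)) := by rw [hTe]
      rw [hT, ← Module.End.mul_apply, ← mul_assoc, hA'sq, map_smul] at this
      rw [← this]
      simp [← Nat.cast_smul_eq_nsmul k]
    have hA'e : A' e' = (6 : k) • A e' + (2 - 2 * ω) • (e' : V) := by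
      rw [hA']
      simp only [LinearMap.add_apply, LinearMap.sub_apply, LinearMap.smul_apply,
        Module.End.one_apply, hYe, ← Nat.cast_smul_eq_nsmul k, Nat.cast_ofNat]
      module
    have hB'e : B' e' = (6 : k) • B e' + (2 - 2 * ω) • (e' : V) := by
      rw [hB']
      simp only [LinearMap.add_apply, LinearMap.sub_apply, LinearMap.smul_apply,
        Module.End.one_apply, hYe, ← Nat.cast_smul_eq_nsmul k, Nat.cast_ofNat]
      module
    have h2 : B' e' = ((-(24 : k))⁻¹ * τ) • A' e' := by
      rw [mul_smul, ← h1, smul_smul, inv_mul_cancel₀ (neg_ne_zero.2 h24.1), one_smul]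
    rw [hA'e, hB'e] at h2
    have h3 : (6 : k) • B e' = (6 : k) • (((6 : k)⁻¹ * ((-(24 : k))⁻¹ * τ * (2 - 2 * ω) -
        (2 - 2 * ω))) • (e' : V) + ((-(24 : k))⁻¹ * τ) • A e') := by
      rw [smul_add, smul_smul, ← mul_assoc, mul_inv_cancel₀ h24.2, one_mul]
      linear_combination (norm := module) h2
    exact smul_right_injective V h24.2 h3
  refine hasFiveHom_of_plane ρ hfpf hcard hz hz1 ?_ ?_ (e := (e' : V)) (f := A e') he0 ?_
    ⟨y, by simp⟩
  · rintro s (rfl | rfl | rfl)
    exacts [⟨hy, hy1⟩, ⟨ha, ha1⟩, ⟨hb, hb1⟩]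
  · rintro s (rfl | rfl | rfl)
    exacts [⟨a, by simp, hncA⟩, ⟨y, by simp, Ne.symm hncA⟩, ⟨y, by simp, Ne.symm hncB⟩]
  rintro s (rfl | rfl | rfl)
  · refine ⟨by rw [← hYdef, hYe]; simpa using hmem ω 0, ?_⟩
    have h1 := LinearMap.congr_fun eA (e' : V)
    simp only [LinearMap.add_apply, Module.End.mul_apply, Module.End.one_apply,
      LinearMap.zero_apply, hYe, map_smul] at h1
    rw [← hYdef]
    convert hmem (-ω - 1) (-ω - 1) using 1
    linear_combination (norm := module) h1
  · exact ⟨by rw [← hAdef]; simpa using hmem 0 1,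
      by rw [← hAdef, hAA]; convert hmem (-1) (-1) using 1; module⟩
  · refine ⟨by rw [← hBdef, hBe]; exact hmem c d, ?_⟩
    have h1 : A (B e') + B (A e') + A e' + B e' + e' = γ • (e' : V) := by
      refine Eq.trans ?_ hDe
      simp [hD]
    rw [hBe, map_add, map_smul, map_smul, hAA] at h1
    rw [← hBdef]
    convert hmem (γ - c + d - 1) (-c - 1) using 1
    linear_combination (norm := module) h1

end CfsgLib.PermGroups
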