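import Cfsg.Agent.Lib.PermGroups.Zassenhaus.Perm5
import Cfsg.Agent.Lib.PermGroups.Zassenhaus.Linear

/-!
The group-theoretic core of the theorem of Zassenhaus: at each element of order three there are at
most two blocks of related elements, so all elements of order three lie in one subgroup of type
`2·A₄` or `2·A₅`.
-/

set_option autoImplicit false
set_option linter.style.haveILetI false

namespace CfsgLib.PermGroups

variable {G : Type*} [Group G] {z : G}

/-- An element of order three. -/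
def IsThree (x : G) : Prop := x ^ 3 = 1 ∧ x ≠ 1

/-- The product squares to the involution `z`. -/
def RelZ (z y a : G) : Prop := y * a * (y * a) = z

/-- The conjugates of `a` under the powers of `y`. -/
def blkSet (y a : G) : Set G := {a, y * a * y⁻¹, y⁻¹ * a * y}

/-- What is used about a group with a fixed-point-free representation. -/
structure FPFData (z : G) : Prop where
  sq_z : z * z = 1
  z_ne : z ≠ 1
  involution : ∀ g : G, g * g = 1 → g = 1 ∨ g = z
  comm_three : ∀ x y : G, IsThree x → IsThree y → x * y = y * x → x = y ∨ x = y⁻¹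
  pair : ∀ y x : G, IsThree y → IsThree x → y * x ≠ x * y → HasFiveHom z {y, x}
  triple : ∀ y a b : G, IsThree y → IsThree a → IsThree b → RelZ z y a → RelZ z y b →
    HasFiveHom z {y, a, b}

theorem IsThree.inv {x : G} (h : IsThree x) : IsThree x⁻¹ :=
  ⟨by rw [inv_pow, h.1, inv_one], inv_ne_one.2 h.2⟩

theorem IsThree.conj {x : G} (h : IsThree x) (g : G) : IsThree (g * x * g⁻¹) :=
  ⟨by rw [conj_pow, h.1, mul_one, mul_inv_cancel], fun e => h.2 (conj_eq_one_iff.1 e)⟩

theorem IsThree.pow_four {x : G} (h : IsThree x) : x ^ 4 = x := by rw [pow_succ, h.1, one_mul]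

theorem IsThree.mem_blkSet {y a b : G} (ha : IsThree a) (hb : b ∈ blkSet y a) : IsThree b := by
  rcases hb with rfl | rfl | rfl
  · exact ha
  · exact ha.conj y
  · simpa using ha.conj y⁻¹

theorem mem_blkSet_symm {y a b : G} (hy : y ^ 3 = 1) (h : b ∈ blkSet y a) :
    ∀ c, c ∈ blkSet y b ↔ c ∈ blkSet y a := by
  have e1 : y * y = y⁻¹ := by
    rw [eq_inv_iff_mul_eq_one, ← hy]; simp [pow_succ, mul_assoc]
  have e2 : y⁻¹ * y⁻¹ = y := by rw [← mul_inv_rev, e1, inv_inv]
  intro c
  rcases h with rfl | rfl | rfl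
  · exact Iff.rfl
  · have u1 : y * (y * a * y⁻¹) * y⁻¹ = y⁻¹ * a * y := by
      calc y * (y * a * y⁻¹) * y⁻¹ = (y * y) * a * (y⁻¹ * y⁻¹) := by group
        _ = _ := by rw [e1, e2]
    have u2 : y⁻¹ * (y * a * y⁻¹) * y = a := by group
    simp only [blkSet, Set.mem_insert_iff, Set.mem_singleton_iff, u1, u2]
    tauto
  · have u1 : y * (y⁻¹ * a * y) * y⁻¹ = a := by group
    have u2 : y⁻¹ * (y⁻¹ * a * y) * y = y * a * y⁻¹ := by
      calc y⁻¹ * (y⁻¹ * a * y) * y = (y⁻¹ * y⁻¹) * a * (y * y) := by group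
        _ = _ := by rw [e1, e2]
    simp only [blkSet, Set.mem_insert_iff, Set.mem_singleton_iff, u1, u2]
    tauto

variable (D : FPFData z)

include D

theorem FPFData.central (g : G) : g * z = z * g := by
  rcases D.involution (g * z * g⁻¹) (by rw [conj_mul, D.sq_z, mul_one, mul_inv_cancel]) with h | h
  · exact absurd (conj_eq_one_iff.1 h) D.z_ne
  · exact mul_inv_eq_iff_eq_mul.1 h

theorem RelZ.symm {y a : G} (h : RelZ z y a) : RelZ z a y := by
  show a * y * (a * y) = z
  calc a * y * (a * y) = a * (y * a * (y * a)) * a⁻¹ := by group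
    _ = z := by rw [h, D.central, mul_inv_cancel_right]

theorem RelZ.conj {y a : G} (h : RelZ z y a) (g : G) :
    RelZ z (g * y * g⁻¹) (g * a * g⁻¹) := by
  show g * y * g⁻¹ * (g * a * g⁻¹) * (g * y * g⁻¹ * (g * a * g⁻¹)) = z
  calc g * y * g⁻¹ * (g * a * g⁻¹) * (g * y * g⁻¹ * (g * a * g⁻¹))
      = g * (y * a * (y * a)) * g⁻¹ := by group
    _ = z := by rw [h, D.central, mul_inv_cancel_right]

theorem RelZ.of_mem_blkSet {y a b : G} (h : RelZ z y a) (hb : b ∈ blkSet y a) : RelZ z y b := by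
  rcases hb with rfl | rfl | rfl
  · exact h
  · simpa using h.conj D y
  · simpa using h.conj D y⁻¹

/-- Moving `c` past two related elements. -/
theorem RelZ.move {c x w : G} (hx : RelZ z c x) (hw : RelZ z c w) :
    c * x * w⁻¹ = x⁻¹ * w * c := by
  have h1 : c * x = z * (x⁻¹ * c⁻¹) := by
    rw [← hx]; group
  have h2 : w * c = z * (c⁻¹ * w⁻¹) := by
    rw [← hw.symm D]; group
  calc c * x * w⁻¹ = z * (x⁻¹ * (c⁻¹ * w⁻¹)) := by rw [h1]; group
    _ = x⁻¹ * (z * (c⁻¹ * w⁻¹)) := by rw [← mul_assoc, ← D.central, mul_assoc]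
    _ = x⁻¹ * w * c := by rw [← h2, mul_assoc]

section Hom

variable {S : Set G} (π : Subgroup.closure S →* Equiv.Perm (Fin 5))
  (hπ : ∀ g, π g = 1 ↔ ((g : G) = 1 ∨ (g : G) = z))

include hπ

omit D in
theorem coe_eq_or {g w : Subgroup.closure S} (h : π g = π w) :
    (g : G) = w ∨ (g : G) = w * z := by
  have : π (w⁻¹ * g) = 1 := by rw [map_mul, map_inv, h, inv_mul_cancel]
  rcases (hπ _).1 this with e | e <;> simp only [Subgroup.coe_mul, Subgroup.coe_inv] at e
  · exact Or.inl (inv_mul_eq_one.1 e).symm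
  · exact Or.inr (inv_mul_eq_iff_eq_mul.1 e)

theorem coe_eq_pow_four {a w : Subgroup.closure S} (ha : IsThree (a : G)) (h : π a = π w) :
    (a : G) = (w : G) ^ 4 := by
  rcases coe_eq_or π hπ h with e | e
  · rw [← e, ha.pow_four]
  · have hz4 : z ^ 4 = 1 := by
      rw [show z ^ 4 = (z * z) * (z * z) by simp [pow_succ, mul_assoc], D.sq_z, one_mul]
    calc (a : G) = (a : G) ^ 4 := ha.pow_four.symm
      _ = (w : G) ^ 4 * z ^ 4 := by rw [e, Commute.mul_pow (D.central _)]
      _ = _ := by rw [hz4, mul_one]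

theorem image_inj {a b : Subgroup.closure S} (ha : IsThree (a : G)) (hb : IsThree (b : G))
    (h : π a = π b) : a = b :=
  Subtype.ext ((coe_eq_pow_four D π hπ ha h).trans hb.pow_four)

theorem image_mem {a : Subgroup.closure S} (ha : IsThree (a : G)) : π a ∈ Perm5.L5 := by
  refine Perm5.mem_L5 _ (fun h => ?_) ?_
  · rcases (hπ a).1 h with e | e
    · exact ha.2 e
    · have := ha.1
      rw [e, show z ^ 3 = z * z * z by simp [pow_succ], D.sq_z, one_mul] at this
      exact D.z_ne this
  · rw [← map_pow, show a ^ 3 = 1 from Subtype.ext ha.1, map_one]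

theorem relZ_iff {a b : Subgroup.closure S} :
    Perm5.R5 (π a) (π b) ↔ RelZ z (a : G) b := by
  unfold Perm5.R5 RelZ
  rw [← map_mul, ← map_pow, hπ, pow_two, Ne, hπ]
  simp only [Subgroup.coe_mul]
  constructor
  · rintro ⟨h1, h2⟩
    rcases h2 with h2 | h2
    · exact absurd (D.involution _ h2) h1
    · exact h2
  · intro h
    refine ⟨?_, Or.inr h⟩
    rintro (e | e) <;> rw [e] at h
    · exact D.z_ne (by simpa using h.symm)
    · rw [D.sq_z] at h; exact D.z_ne h.symm

theorem blk_iff {y a b : Subgroup.closure S} (ha : IsThree (a : G)) (hb : IsThree (b : G)) :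
    π b ∈ Perm5.blk (π y) (π a) ↔ (b : G) ∈ blkSet (y : G) a := by
  simp only [Perm5.blk, blkSet, ← map_inv, ← map_mul, List.mem_cons, List.not_mem_nil, or_false,
    Set.mem_insert_iff, Set.mem_singleton_iff]
  constructor
  · rintro (h | h | h)
    · exact Or.inl (congrArg Subtype.val (image_inj D π hπ hb ha h))
    · exact Or.inr (Or.inl (congrArg Subtype.val
        (image_inj D π hπ hb (by simpa using ha.conj (y : G)) h)))
    · exact Or.inr (Or.inr (congrArg Subtype.val
        (image_inj D π hπ hb (by simpa using ha.conj (y : G)⁻¹) h)))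
  · rintro (h | h | h)
    · exact Or.inl (congrArg π (Subtype.ext h))
    · exact Or.inr (Or.inl (congrArg π (Subtype.ext (by simpa using h))))
    · exact Or.inr (Or.inr (congrArg π (Subtype.ext (by simpa using h))))

/-- In one copy there are at most two blocks at each point. -/
theorem blocks_in_image {y a b c : G} (hyS : y ∈ Subgroup.closure S)
    (haS : a ∈ Subgroup.closure S) (hbS : b ∈ Subgroup.closure S) (hcS : c ∈ Subgroup.closure S)
    (hy : IsThree y) (ha : IsThree a) (hb : IsThree b) (hc : IsThree c) (hya : RelZ z y a)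
    (hyb : RelZ z y b) (hyc : RelZ z y c) (hab : b ∉ blkSet y a) :
    c ∈ blkSet y a ∨ c ∈ blkSet y b := by
  let Y : Subgroup.closure S := ⟨y, hyS⟩
  let A : Subgroup.closure S := ⟨a, haS⟩
  let B : Subgroup.closure S := ⟨b, hbS⟩
  let C : Subgroup.closure S := ⟨c, hcS⟩
  rcases Perm5.two_blocks (π Y) (image_mem D π hπ (a := Y) hy) (π A) (image_mem D π hπ (a := A) ha)
      ((relZ_iff D π hπ (a := Y) (b := A)).2 hya) (π B) (image_mem D π hπ (a := B) hb)
      ((relZ_iff D π hπ (a := Y) (b := B)).2 hyb)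
      (fun h => hab ((blk_iff D π hπ (y := Y) (a := A) (b := B) ha hb).1 h))
      (π C) (image_mem D π hπ (a := C) hc) ((relZ_iff D π hπ (a := Y) (b := C)).2 hyc) with h | h
  · exact Or.inl ((blk_iff D π hπ (y := Y) (a := A) (b := C) ha hc).1 h)
  · exact Or.inr ((blk_iff D π hπ (y := Y) (a := B) (b := C) hb hc).1 h)

end Hom

/-- A second block contains an element related to a given element of the first block. -/
theorem exists_matched {y a b : G} (hy : IsThree y) (ha : IsThree a) (hb : IsThree b)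
    (hya : RelZ z y a) (hyb : RelZ z y b) (hab : b ∉ blkSet y a) :
    ∃ b' ∈ blkSet y b, RelZ z a b' := by
  obtain ⟨π, hπ⟩ := D.triple y a b hy ha hb hya hyb
  let Y : Subgroup.closure ({y, a, b} : Set G) := ⟨y, Subgroup.subset_closure (by simp)⟩
  let A : Subgroup.closure ({y, a, b} : Set G) := ⟨a, Subgroup.subset_closure (by simp)⟩
  let B : Subgroup.closure ({y, a, b} : Set G) := ⟨b, Subgroup.subset_closure (by simp)⟩
  obtain ⟨q, hq, hR⟩ := Perm5.exists_match (π Y) (image_mem D π hπ (a := Y) hy) (π A)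
    (image_mem D π hπ (a := A) ha) ((relZ_iff D π hπ (a := Y) (b := A)).2 hya) (π B)
    (image_mem D π hπ (a := B) hb) ((relZ_iff D π hπ (a := Y) (b := B)).2 hyb)
    (fun h => hab ((blk_iff D π hπ (y := Y) (a := A) (b := B) ha hb).1 h))
  simp only [Perm5.blk, ← map_inv, ← map_mul, List.mem_cons, List.not_mem_nil, or_false] at hq
  rcases hq with rfl | rfl | rfl
  · exact ⟨b, Or.inl rfl, (relZ_iff D π hπ (a := A) (b := B)).1 hR⟩
  · exact ⟨y * b * y⁻¹, Or.inr (Or.inl rfl), (relZ_iff D π hπ (a := A) (b := Y * B * Y⁻¹)).1 hR⟩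
  · exact ⟨y⁻¹ * b * y, Or.inr (Or.inr rfl), (relZ_iff D π hπ (a := A) (b := Y⁻¹ * B * Y)).1 hR⟩

/-- The key claim: at each element of order three there are at most two blocks. -/
theorem two_blocks {y a b c : G} (hy : IsThree y) (ha : IsThree a) (hb : IsThree b) (hc : IsThree c)
    (hya : RelZ z y a) (hyb : RelZ z y b) (hyc : RelZ z y c) (hab : b ∉ blkSet y a) :
    c ∈ blkSet y a ∨ c ∈ blkSet y b := by
  by_contra hcon
  push Not at hcon
  obtain ⟨hac, hbc⟩ := hcon
  obtain ⟨b', hb'mem, hab'⟩ := exists_matched D hy ha hb hya hyb hab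
  obtain ⟨c', hc'mem, hac'⟩ := exists_matched D hy ha hc hya hyc hac
  have hb3 : IsThree b' := hb.mem_blkSet hb'mem
  have hc3 : IsThree c' := hc.mem_blkSet hc'mem
  have hyb' : RelZ z y b' := hyb.of_mem_blkSet D hb'mem
  have hyc' : RelZ z y c' := hyc.of_mem_blkSet D hc'mem
  have hbsymm := mem_blkSet_symm hy.1 hb'mem
  have hcsymm := mem_blkSet_symm hy.1 hc'mem
  have hab1 : b' ∉ blkSet y a := fun h =>
    hab ((mem_blkSet_symm hy.1 h b).1 ((hbsymm b).2 (Or.inl rfl)))
  have hac1 : c' ∉ blkSet y a := fun h =>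
    hac ((mem_blkSet_symm hy.1 h c).1 ((hcsymm c).2 (Or.inl rfl)))
  have hbc1 : c' ∉ blkSet y b' := fun h => hbc ((hbsymm c).1
    ((mem_blkSet_symm hy.1 h c).1 ((hcsymm c).2 (Or.inl rfl))))
  have hcontra : ∀ S : Set G, HasFiveHom z S → y ∈ Subgroup.closure S → a ∈ Subgroup.closure S →
      b' ∈ Subgroup.closure S → c' ∈ Subgroup.closure S → False := by
    rintro S ⟨π, hπ⟩ h1 h2 h3 h4
    rcases blocks_in_image D π hπ h1 h2 h3 h4 hy ha hb3 hc3 hya hyb' hyc' hab1 with h | h
    · exact hac1 h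
    · exact hbc1 h
  by_cases hbc' : RelZ z b' c'
  · -- a clique: `c'` commutes with an element of order three of the first subgroup
    obtain ⟨π, hπ⟩ := D.triple y a b' hy ha hb3 hya hyb'
    let Y : Subgroup.closure ({y, a, b'} : Set G) := ⟨y, Subgroup.subset_closure (by simp)⟩
    let A : Subgroup.closure ({y, a, b'} : Set G) := ⟨a, Subgroup.subset_closure (by simp)⟩
    let B : Subgroup.closure ({y, a, b'} : Set G) := ⟨b', Subgroup.subset_closure (by simp)⟩
    obtain ⟨hteq, ht⟩ := Perm5.clique_word (π Y) (image_mem D π hπ (a := Y) hy) (π A)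
      (image_mem D π hπ (a := A) ha) ((relZ_iff D π hπ (a := Y) (b := A)).2 hya) (π B)
      (image_mem D π hπ (a := B) hb3) ((relZ_iff D π hπ (a := Y) (b := B)).2 hyb')
      ((relZ_iff D π hπ (a := A) (b := B)).2 hab')
      (fun h => hab1 ((blk_iff D π hπ (y := Y) (a := A) (b := B) ha hb3).1 h))
    simp only [← map_inv, ← map_mul] at hteq ht
    set t : G := y * a⁻¹ * b' * y⁻¹ with ht_def
    have hmove : c' * t = y⁻¹ * a * b'⁻¹ * y * c' := by
      calc c' * t = (c' * y * a⁻¹) * b' * y⁻¹ := by rw [ht_def]; group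
        _ = y⁻¹ * a * (c' * b' * y⁻¹) := by rw [(hyc'.symm D).move D (hac'.symm D)]; group
        _ = y⁻¹ * a * b'⁻¹ * y * c' := by
            rw [(hbc'.symm D).move D (hyc'.symm D)]; group
    have hz4 : z ^ 4 = 1 := by
      rw [show z ^ 4 = (z * z) * (z * z) by simp [pow_succ, mul_assoc], D.sq_z, one_mul]
    have hconj : c' * t ^ 4 * c'⁻¹ = t ^ 4 := by
      rw [← conj_pow, hmove, mul_inv_cancel_right]
      rcases coe_eq_or π hπ hteq.symm with e | e
      · exact congrArg (· ^ 4) e
      · simp only [Subgroup.coe_mul, Subgroup.coe_inv] at e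
        rw [e, Commute.mul_pow (D.central _), hz4, mul_one]
    let W : Subgroup.closure ({y, a, b'} : Set G) := Y * A⁻¹ * B * Y⁻¹
    have hWt : (W : G) = t := rfl
    have hπW := (Perm5.L5_isThreeCycle _ ht)
    have ht3 : IsThree (t ^ 4) := by
      refine ⟨?_, fun h => ?_⟩
      · have h3 : π (W ^ 3) = 1 := by rw [map_pow]; exact hπW.2
        have h12 : t ^ 12 = (t ^ 3) * (t ^ 3) * ((t ^ 3) * (t ^ 3)) := by
          rw [← pow_add, ← pow_add]
        rw [← pow_mul, show 4 * 3 = 12 from rfl, h12]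
        rcases (hπ _).1 h3 with e | e <;> rw [SubgroupClass.coe_pow, hWt] at e <;> rw [e]
        · simp
        · rw [D.sq_z, one_mul]
      · have h4 : W ^ 4 = 1 := Subtype.ext (by rw [SubgroupClass.coe_pow, hWt, h]; rfl)
        have := congrArg π h4
        rw [map_pow, map_one, pow_succ, hπW.2, one_mul] at this
        exact hπW.1 this
    have hcmem : c' ∈ Subgroup.closure ({y, a, b'} : Set G) := by
      rcases D.comm_three c' (t ^ 4) hc3 ht3 (mul_inv_eq_iff_eq_mul.1 hconj) with e | e <;> rw [e]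
      · exact pow_mem (hWt ▸ W.2) 4
      · exact inv_mem (pow_mem (hWt ▸ W.2) 4)
    exact hcontra _ ⟨π, hπ⟩ Y.2 A.2 B.2 hcmem
  · -- `y` lies in the subgroup generated by `b'` and `c'`
    obtain ⟨π, hπ⟩ := D.triple y b' c' hy hb3 hc3 hyb' hyc'
    let Y : Subgroup.closure ({y, b', c'} : Set G) := ⟨y, Subgroup.subset_closure (by simp)⟩
    let B : Subgroup.closure ({y, b', c'} : Set G) := ⟨b', Subgroup.subset_closure (by simp)⟩
    let C : Subgroup.closure ({y, b', c'} : Set G) := ⟨c', Subgroup.subset_closure (by simp)⟩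
    have hw := Perm5.eq_word_of_not_R5 (π Y) (image_mem D π hπ (a := Y) hy) (π B)
      (image_mem D π hπ (a := B) hb3) ((relZ_iff D π hπ (a := Y) (b := B)).2 hyb') (π C)
      (image_mem D π hπ (a := C) hc3) ((relZ_iff D π hπ (a := Y) (b := C)).2 hyc')
      (fun h => hbc1 ((blk_iff D π hπ (y := Y) (a := B) (b := C) hb3 hc3).1 h))
      (fun h => hbc' ((relZ_iff D π hπ (a := B) (b := C)).1 h))
    simp only [← map_inv, ← map_mul] at hw
    have hbK : b' ∈ Subgroup.closure ({a, b', c'} : Set G) := Subgroup.subset_closure (by simp)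
    have hcK : c' ∈ Subgroup.closure ({a, b', c'} : Set G) := Subgroup.subset_closure (by simp)
    have hyK : y ∈ Subgroup.closure ({a, b', c'} : Set G) := by
      rcases hw with e | e
      · have := coe_eq_pow_four D π hπ (a := Y) hy e
        rw [show (Y : G) = y from rfl] at this
        rw [this]
        exact pow_mem (mul_mem (mul_mem (mul_mem hbK (inv_mem hcK)) (inv_mem hbK)) hcK) 4
      · have := coe_eq_pow_four D π hπ (a := Y) hy e
        rw [show (Y : G) = y from rfl] at this
        rw [this]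
        exact pow_mem (mul_mem (mul_mem (mul_mem hcK (inv_mem hbK)) (inv_mem hcK)) hbK) 4
    exact hcontra _ (D.triple a b' c' ha hb3 hc3 hab' hac') hyK
      (Subgroup.subset_closure (by simp)) hbK hcK

/-- All elements of order three lie in one copy of `2·A₅`, or among eight elements. -/
theorem order_three_dichotomy {y : G} (hy : IsThree y) :
    (∃ a b, IsThree a ∧ IsThree b ∧ RelZ z y a ∧ RelZ z y b ∧ b ∉ blkSet y a ∧
      ∀ w, IsThree w → w ∈ Subgroup.closure ({y, a, b} : Set G)) ∨
    (∀ w, IsThree w → w * y = y * w) ∨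
    (∃ a, IsThree a ∧ RelZ z y a ∧
      ∀ w, IsThree w → w = y ∨ w = y⁻¹ ∨ w ∈ blkSet y a ∨ w⁻¹ ∈ blkSet y a) := by
  have hthird : ∀ w, IsThree w → y * w ≠ w * y → ¬ RelZ z y w → ¬ RelZ z y w⁻¹ →
      ∃ a' b', IsThree a' ∧ IsThree b' ∧ RelZ z y a' ∧ RelZ z y b' ∧ b' ∉ blkSet y a' ∧
        w ∈ Subgroup.closure ({y, a', b'} : Set G) := by
    intro w hw hne h1 h2
    obtain ⟨π, hπ⟩ := D.pair y w hy hw hne
    let Y : Subgroup.closure ({y, w} : Set G) := ⟨y, Subgroup.subset_closure (by simp)⟩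
    let X : Subgroup.closure ({y, w} : Set G) := ⟨w, Subgroup.subset_closure (by simp)⟩
    have hXY : π X ≠ π Y := fun h => hne (by
      have e : w = y := congrArg Subtype.val (image_inj D π hπ (a := X) (b := Y) hw hy h)
      rw [e])
    have hXY' : π X ≠ (π Y)⁻¹ := fun h => hne (by
      rw [← map_inv] at h
      have e := congrArg Subtype.val (image_inj D π hπ (a := X) (b := Y⁻¹) hw hy.inv h)
      rw [show (X : G) = w from rfl, Subgroup.coe_inv] at e
      rw [e]; simp [Y])
    obtain ⟨r1, r2, r3⟩ := Perm5.exists_blocks (π Y) (image_mem D π hπ (a := Y) hy) (π X)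
      (image_mem D π hπ (a := X) hw) hXY hXY'
      (fun h => h1 ((relZ_iff D π hπ (a := Y) (b := X)).1 h))
      (fun h => h2 (by
        rw [← map_inv] at h
        exact (relZ_iff D π hπ (a := Y) (b := X⁻¹)).1 h))
    simp only [← map_inv, ← map_mul] at r1 r2 r3
    have hA : IsThree ((X * Y * X⁻¹ : Subgroup.closure ({y, w} : Set G)) : G) := hy.conj w
    have hB : IsThree ((X⁻¹ * Y * X : Subgroup.closure ({y, w} : Set G)) : G) := by
      simpa [X, Y] using hy.conj w⁻¹
    have hblk : (π (X⁻¹ * Y * X)) ∉ Perm5.blk (π Y) (π (X * Y * X⁻¹)) := r3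
    refine ⟨_, _, hA, hB, (relZ_iff D π hπ (a := Y) (b := X * Y * X⁻¹)).1 r1,
      (relZ_iff D π hπ (a := Y) (b := X⁻¹ * Y * X)).1 r2,
      fun h => hblk ((blk_iff D π hπ (y := Y) hA hB).2 h), ?_⟩
    have hmem := Perm5.mem_closure_triple (image_mem D π hπ (a := Y) hy) (image_mem D π hπ hA) r1
      (image_mem D π hπ hB) r2 hblk (image_mem D π hπ (a := X) hw)
    have himg : ({π Y, π (X * Y * X⁻¹), π (X⁻¹ * Y * X)} : Set (Equiv.Perm (Fin 5))) =
        π '' {Y, X * Y * X⁻¹, X⁻¹ * Y * X} := by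
      rw [Set.image_insert_eq, Set.image_insert_eq, Set.image_singleton]
    rw [himg, ← MonoidHom.map_closure] at hmem
    obtain ⟨g, hg, hge⟩ := hmem
    have e := coe_eq_pow_four D π hπ (a := X) hw hge.symm
    rw [show (X : G) = w from rfl] at e
    refine (congrArg (fun u => u ∈ Subgroup.closure
      ({y, ((X * Y * X⁻¹ : Subgroup.closure ({y, w} : Set G)) : G),
        ((X⁻¹ * Y * X : Subgroup.closure ({y, w} : Set G)) : G)} : Set G)) e).mpr ?_
    refine pow_mem ?_ 4
    have := Subgroup.mem_map_of_mem (Subgroup.closure ({y, w} : Set G)).subtype hg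
    rw [MonoidHom.map_closure, Set.image_insert_eq, Set.image_insert_eq, Set.image_singleton] at this
    exact this
  have hcomm : ∀ w, IsThree w → y * w = w * y → w = y ∨ w = y⁻¹ := fun w hw h =>
    D.comm_three w y hw hy h.symm
  by_cases h2b : ∃ a b, IsThree a ∧ IsThree b ∧ RelZ z y a ∧ RelZ z y b ∧ b ∉ blkSet y a
  · left
    obtain ⟨a, b, ha, hb, hya, hyb, hab⟩ := h2b
    refine ⟨a, b, ha, hb, hya, hyb, hab, ?_⟩
    set K := Subgroup.closure ({y, a, b} : Set G) with hK
    have hyK : y ∈ K := Subgroup.subset_closure (by simp)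
    have hblkK : ∀ c, IsThree c → RelZ z y c → c ∈ K := by
      intro c hc hyc
      have haK : a ∈ K := Subgroup.subset_closure (by simp)
      have hbK : b ∈ K := Subgroup.subset_closure (by simp)
      rcases two_blocks D hy ha hb hc hya hyb hyc hab with (rfl | rfl | rfl) | (rfl | rfl | rfl)
      · exact haK
      · exact mul_mem (mul_mem hyK haK) (inv_mem hyK)
      · exact mul_mem (mul_mem (inv_mem hyK) haK) hyK
      · exact hbK
      · exact mul_mem (mul_mem hyK hbK) (inv_mem hyK)
      · exact mul_mem (mul_mem (inv_mem hyK) hbK) hyK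
    intro w hw
    by_cases hc : y * w = w * y
    · rcases hcomm w hw hc with rfl | rfl
      · exact hyK
      · exact inv_mem hyK
    by_cases h1 : RelZ z y w
    · exact hblkK w hw h1
    by_cases h2 : RelZ z y w⁻¹
    · simpa using inv_mem (hblkK _ hw.inv h2)
    obtain ⟨a', b', ha', hb', hya', hyb', -, hmem⟩ := hthird w hw hc h1 h2
    refine (Subgroup.closure_le K).2 ?_ hmem
    rintro u (rfl | rfl | rfl)
    · exact hyK
    · exact hblkK _ ha' hya'
    · exact hblkK _ hb' hyb'
  · right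
    push Not at h2b
    have h3 : ∀ w, IsThree w → y * w ≠ w * y → RelZ z y w ∨ RelZ z y w⁻¹ := by
      intro w hw hne
      by_contra hcon
      push Not at hcon
      obtain ⟨a', b', ha', hb', hya', hyb', hnot, -⟩ := hthird w hw hne hcon.1 hcon.2
      exact hnot (h2b a' b' ha' hb' hya' hyb')
    by_cases hex : ∀ w, IsThree w → w * y = y * w
    · exact Or.inl hex
    push Not at hex
    obtain ⟨u, hu, hune⟩ := hex
    obtain ⟨a, ha, hya⟩ : ∃ a, IsThree a ∧ RelZ z y a := by
      rcases h3 u hu hune.symm with h | h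
      exacts [⟨u, hu, h⟩, ⟨u⁻¹, hu.inv, h⟩]
    refine Or.inr ⟨a, ha, hya, fun w hw => ?_⟩
    by_cases hc : y * w = w * y
    · rcases hcomm w hw hc with h | h
      exacts [Or.inl h, Or.inr (Or.inl h)]
    rcases h3 w hw hc with h | h
    · exact Or.inr (Or.inr (Or.inl (h2b a w ha hw hya h)))
    · exact Or.inr (Or.inr (Or.inr (h2b a _ ha hw.inv hya h)))

end CfsgLib.PermGroups
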