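import Cfsg.Agent.Lib.PermGroups.Zassenhaus.KleinAbstract
import Cfsg.Agent.Lib.SL2.Basic

/-!
Klein's theorem: a finite non-abelian subgroup of `SL₂(k)`, `k` algebraically closed with `|H|`
invertible, generated by elements of order three, maps to the permutations of five letters with
kernel the scalars.
-/

set_option autoImplicit false
set_option linter.style.haveILetI false
set_option linter.deprecated false

open Matrix
open scoped MatrixGroups

namespace CfsgLib.PermGroups

variable {k : Type*} [Field k]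

theorem pow_eq_of_sq_zero {A N : Matrix (Fin 2) (Fin 2) k} {μ : k}
    (hA : A = μ • (1 : Matrix (Fin 2) (Fin 2) k) + N) (hN : N * N = 0) (n : ℕ) :
    A ^ (n + 1) = μ ^ (n + 1) • (1 : Matrix (Fin 2) (Fin 2) k) + (((n + 1 : ℕ) : k) * μ ^ n) • N := by
  induction n with
  | zero => simp [hA]
  | succ n ih =>
    rw [pow_succ, ih, hA, add_mul, mul_add, mul_add]
    simp only [Matrix.smul_mul, Matrix.mul_smul, one_mul, mul_one, hN, smul_zero, add_zero,
      smul_smul]
    rw [add_assoc, ← add_smul]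
    congr 1
    · rw [← pow_succ']
    · congr 1; push_cast; ring

/-- The fixed lines of a non-central element of finite order prime to the characteristic. -/
theorem exists_two_lines [IsAlgClosed k] {A : SL(2, k)} {M : ℕ} (hM : (M : k) ≠ 0) (hA : A ^ M = 1)
    (hnc : A ∉ Subgroup.center (SL(2, k))) :
    ∃ (a b : k) (v w : Fin 2 → k), a ≠ b ∧ a * b = 1 ∧ v ≠ 0 ∧ w ≠ 0 ∧
      (A : Matrix (Fin 2) (Fin 2) k) *ᵥ v = a • v ∧ (A : Matrix (Fin 2) (Fin 2) k) *ᵥ w = b • w ∧
      Submodule.span k {v} ≠ Submodule.span k {w} ∧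
      ∀ (c : k) (u : Fin 2 → k), u ≠ 0 → (A : Matrix (Fin 2) (Fin 2) k) *ᵥ u = c • u →
        Submodule.span k {u} = Submodule.span k {v} ∨ Submodule.span k {u} = Submodule.span k {w} := by
  set A₀ : Matrix (Fin 2) (Fin 2) k := (A : Matrix (Fin 2) (Fin 2) k) with hA₀
  set t := CfsgLib.SL2.tr A with ht
  obtain ⟨a, ha⟩ : ∃ a : k, a * a - t * a + 1 = 0 := by
    have hdeg : (Polynomial.X ^ 2 - Polynomial.C t * Polynomial.X + 1 : Polynomial k).degree = 2 := by
      compute_degree!
    obtain ⟨a, ha⟩ := IsAlgClosed.exists_root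
      (Polynomial.X ^ 2 - Polynomial.C t * Polynomial.X + 1 : Polynomial k) (by rw [hdeg]; decide)
    exact ⟨a, by simpa [sq] using ha⟩
  set b := t - a with hb
  have hab : a * b = 1 := by rw [hb]; linear_combination -ha
  have hsum : t = a + b := by rw [hb]; ring
  have hsq := CfsgLib.SL2.mul_self_eq A
  rw [← ht, ← hA₀] at hsq
  have hP : ∀ c d : k, c + d = t → c * d = 1 →
      (A₀ - c • (1 : Matrix (Fin 2) (Fin 2) k)) * (A₀ - d • (1 : Matrix (Fin 2) (Fin 2) k)) = 0 := by
    intro c d hcd hcd'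
    rw [sub_mul, mul_sub, mul_sub]
    simp only [Matrix.smul_mul, Matrix.mul_smul, one_mul, mul_one, smul_smul, hsq, hcd',
      (mul_comm d c).trans hcd']
    rw [← hcd, add_smul]
    module
  have hnscal : ∀ c : k, A₀ - c • (1 : Matrix (Fin 2) (Fin 2) k) ≠ 0 := by
    intro c hc
    apply hnc
    rw [CfsgLib.SL2.mem_center_iff_isScalarMat, CfsgLib.SL2.isScalarMat_iff]
    exact ⟨c, sub_eq_zero.1 hc⟩
  have hne : a ≠ b := by
    intro h
    have hM0 : M ≠ 0 := fun h0 => hM (by rw [h0, Nat.cast_zero])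
    obtain ⟨n, rfl⟩ := Nat.exists_eq_succ_of_ne_zero hM0
    have hN := hP a a (by rw [hsum, ← h]) (by rw [h] at hab ⊢; exact hab)
    have hp := pow_eq_of_sq_zero (A := A₀) (N := A₀ - a • 1) (μ := a) (by abel) hN n
    have hA' : A₀ ^ (n + 1) = 1 := by
      rw [hA₀, ← Matrix.SpecialLinearGroup.coe_pow, hA, Matrix.SpecialLinearGroup.coe_one]
    rw [hA'] at hp
    have ha0 : a ≠ 0 := left_ne_zero_of_mul_eq_one hab
    have hc : (((n + 1 : ℕ) : k) * a ^ n) ≠ 0 := mul_ne_zero hM (pow_ne_zero _ ha0)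
    apply hnscal (a + (((n + 1 : ℕ) : k) * a ^ n)⁻¹ * (1 - a ^ (n + 1)))
    have h1 : (((n + 1 : ℕ) : k) * a ^ n) • (A₀ - a • (1 : Matrix (Fin 2) (Fin 2) k)) =
        (1 - a ^ (n + 1)) • (1 : Matrix (Fin 2) (Fin 2) k) := by
      rw [sub_smul, one_smul, eq_sub_iff_add_eq, add_comm]
      exact hp.symm
    have h2 := congrArg (fun X => (((n + 1 : ℕ) : k) * a ^ n)⁻¹ • X) h1
    simp only [smul_smul, inv_mul_cancel₀ hc, one_smul] at h2
    rw [add_smul, sub_add_eq_sub_sub, h2, sub_self]
  have hex : ∀ c : k, ∃ x : Fin 2 → k, (A₀ - c • (1 : Matrix (Fin 2) (Fin 2) k)) *ᵥ x ≠ 0 := by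
    intro c
    by_contra hx
    push Not at hx
    exact hnscal c (Matrix.ext_of_mulVec_single fun i => by rw [hx, Matrix.zero_mulVec])
  obtain ⟨x, hx⟩ := hex b
  obtain ⟨y, hy⟩ := hex a
  have heig : ∀ c d : k, c + d = t → c * d = 1 → ∀ x : Fin 2 → k,
      A₀ *ᵥ ((A₀ - d • (1 : Matrix (Fin 2) (Fin 2) k)) *ᵥ x) =
        c • ((A₀ - d • (1 : Matrix (Fin 2) (Fin 2) k)) *ᵥ x) := by
    intro c d hcd hcd' x
    have := congrArg (· *ᵥ x) (hP c d hcd hcd')
    simp only [← Matrix.mulVec_mulVec, Matrix.zero_mulVec] at this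
    rwa [Matrix.sub_mulVec, sub_eq_zero, Matrix.smul_mulVec, Matrix.one_mulVec] at this
  set v := (A₀ - b • (1 : Matrix (Fin 2) (Fin 2) k)) *ᵥ x with hv
  set w := (A₀ - a • (1 : Matrix (Fin 2) (Fin 2) k)) *ᵥ y with hw
  have hAv : A₀ *ᵥ v = a • v := heig a b hsum.symm hab x
  have hAw : A₀ *ᵥ w = b • w := heig b a (by rw [hsum, add_comm]) (by rw [mul_comm, hab]) y
  have hli : LinearIndependent k ![v, w] := by
    rw [LinearIndependent.pair_iff]
    intro s r hsr
    have h := congrArg (A₀ *ᵥ ·) hsr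
    simp only [Matrix.mulVec_add, Matrix.mulVec_smul, hAv, hAw, Matrix.mulVec_zero] at h
    have h1 : (r * (b - a)) • w = 0 := by
      calc (r * (b - a)) • w = (s • (a • v) + r • (b • w)) - a • (s • v + r • w) := by module
        _ = 0 := by rw [h, hsr, smul_zero, sub_zero]
    rcases smul_eq_zero.1 h1 with h2 | h2
    · have hr : r = 0 := (mul_eq_zero.1 h2).resolve_right (sub_ne_zero.2 hne.symm)
      subst hr
      rw [zero_smul, add_zero] at hsr
      exact ⟨(smul_eq_zero.1 hsr).resolve_right hx, rfl⟩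
    · exact absurd h2 hy
  refine ⟨a, b, v, w, hne, hab, hx, hy, hAv, hAw, ?_, ?_⟩
  · intro h
    obtain ⟨s, hs⟩ := Submodule.mem_span_singleton.1 (h ▸ Submodule.mem_span_singleton_self v)
    have := (LinearIndependent.pair_iff.1 hli 1 (-s) (by rw [one_smul, neg_smul, hs, add_neg_cancel])).1
    exact one_ne_zero this
  · intro c u hu hAu
    have htop : Submodule.span k (Set.range ![v, w]) = ⊤ :=
      hli.span_eq_top_of_card_eq_finrank (by simp)
    have hu' : u ∈ Submodule.span k ({v, w} : Set (Fin 2 → k)) := by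
      have : Set.range ![v, w] = ({v, w} : Set (Fin 2 → k)) := by
        simp [Set.pair_comm]
      rw [← this, htop]; exact Submodule.mem_top
    obtain ⟨s, r, rfl⟩ := Submodule.mem_span_pair.1 hu'
    simp only [Matrix.mulVec_add, Matrix.mulVec_smul, hAv, hAw, smul_add, smul_smul] at hAu
    have h0 : (s * a - c * s) • v + (r * b - c * r) • w = 0 := by
      rw [sub_smul, sub_smul]
      have := sub_eq_zero.2 hAu
      rw [← this]; abel
    obtain ⟨h1, h2⟩ := LinearIndependent.pair_iff.1 hli _ _ h0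
    rcases eq_or_ne s 0 with hs | hs
    · subst hs
      right
      rw [zero_smul, zero_add] at hu ⊢
      exact Submodule.span_singleton_smul_eq (Ne.isUnit fun hr => hu (by rw [hr, zero_smul])) w
    · left
      rcases eq_or_ne r 0 with hr | hr
      · subst hr
        rw [zero_smul, add_zero] at hu ⊢
        exact Submodule.span_singleton_smul_eq (Ne.isUnit hs) v
      · exfalso
        apply hne
        have e1 : s * (a - c) = 0 := by rw [mul_sub, mul_comm s c]; exact h1
        have e2 : r * (b - c) = 0 := by rw [mul_sub, mul_comm r c]; exact h2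
        rw [sub_eq_zero.1 ((mul_eq_zero.1 e1).resolve_left hs),
          sub_eq_zero.1 ((mul_eq_zero.1 e2).resolve_left hr)]

/-- Klein's theorem. -/
theorem exists_perm_five_of_sl_two [IsAlgClosed k] {H : Type*} [Group H] [Finite H]
    (θ : H →* SL(2, k)) (hθ : Function.Injective θ) (hcard : (Nat.card H : k) ≠ 0)
    (hgen : Subgroup.closure {h : H | h ^ 3 = 1} = ⊤) (hnab : ¬ IsMulCommutative H) :
    ∃ π : H →* Equiv.Perm (Fin 5), ∀ h, π h = 1 ↔ (θ h = 1 ∨ θ h = -1) := by
  classical
  set Z : Subgroup H := (Subgroup.center (SL(2, k))).comap θ with hZ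
  have hZc : Z ≤ Subgroup.center H := by
    intro z hz
    rw [Subgroup.mem_center_iff]
    intro g
    apply hθ
    rw [map_mul, map_mul, Subgroup.mem_center_iff.1 hz]
  letI act : MulAction H (Submodule k (Fin 2 → k)) :=
    { smul := fun h W => W.map (Matrix.toLin' (θ h : Matrix (Fin 2) (Fin 2) k))
      one_smul := fun W => by
        show W.map (Matrix.toLin' (θ 1 : Matrix (Fin 2) (Fin 2) k)) = W
        rw [map_one, Matrix.SpecialLinearGroup.coe_one, Matrix.toLin'_one, Submodule.map_id]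
      mul_smul := fun g h W => by
        show W.map (Matrix.toLin' (θ (g * h) : Matrix (Fin 2) (Fin 2) k)) = (W.map _).map _
        rw [map_mul, Matrix.SpecialLinearGroup.coe_mul, Matrix.toLin'_mul, Submodule.map_comp] }
  have hline : ∀ (h : H) (v : Fin 2 → k),
      h • Submodule.span k {v} =
        Submodule.span k {(θ h : Matrix (Fin 2) (Fin 2) k) *ᵥ v} := by
    intro h v
    show (Submodule.span k {v}).map _ = _
    rw [Submodule.map_span, Set.image_singleton, Matrix.toLin'_apply]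
  have hA : ∀ h, θ h ^ Nat.card H = 1 := fun h => by rw [← map_pow, pow_card_eq_one', map_one]
  have hzpm : ∀ h ∈ Z, ∀ W : Submodule k (Fin 2 → k), h • W = W := by
    intro h hh W
    show W.map (Matrix.toLin' (θ h : Matrix (Fin 2) (Fin 2) k)) = W
    rcases (CfsgLib.SL2.mem_center_iff _).1 (show θ h ∈ Subgroup.center (SL(2, k)) from hh) with e | e
    · rw [e, Matrix.SpecialLinearGroup.coe_one, Matrix.toLin'_one, Submodule.map_id]
    · rw [e, Matrix.SpecialLinearGroup.coe_neg, map_neg, Matrix.SpecialLinearGroup.coe_one,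
        Matrix.toLin'_one]
      simp
  let Fix : H → Set (Submodule k (Fin 2 → k)) := fun h =>
    {W | ∃ v, v ≠ 0 ∧ W = Submodule.span k {v} ∧ ∃ c : k,
      (θ h : Matrix (Fin 2) (Fin 2) k) *ᵥ v = c • v}
  have hFix2 : ∀ h, h ∉ Z → ∃ p q, p ≠ q ∧ Fix h = {p, q} ∧ ∀ W ∈ Fix h, h • W = W := by
    intro h hh
    obtain ⟨a, b, v, w, hab, hab1, hv, hw, hAv, hAw, hvw, huniq⟩ :=
      exists_two_lines hcard (hA h) hh
    refine ⟨_, _, hvw, ?_, ?_⟩
    · ext W
      constructor
      · rintro ⟨u, hu, rfl, c, hc⟩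
        exact huniq c u hu hc
      · rintro (rfl | rfl)
        · exact ⟨v, hv, rfl, a, hAv⟩
        · exact ⟨w, hw, rfl, b, hAw⟩
    · rintro W ⟨u, hu, rfl, c, hc⟩
      rw [hline, hc, Submodule.span_singleton_smul_eq]
      refine Ne.isUnit fun h0 => ?_
      rw [h0, zero_smul] at hc
      apply hu
      have h' := congrArg (((θ h)⁻¹ : SL(2, k)).1 *ᵥ ·) hc
      simp only [Matrix.mulVec_mulVec, Matrix.mulVec_zero] at h'
      rwa [← Matrix.SpecialLinearGroup.coe_mul, inv_mul_cancel, Matrix.SpecialLinearGroup.coe_one,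
        Matrix.one_mulVec] at h'
  let P : Set (Submodule k (Fin 2 → k)) := {W | ∃ h, h ∉ Z ∧ W ∈ Fix h}
  have hPfin : P.Finite := by
    have : P ⊆ ⋃ h ∈ {h : H | h ∉ Z}, Fix h := by
      rintro W ⟨h, hh, hW⟩; exact Set.mem_biUnion hh hW
    refine Set.Finite.subset (Set.Finite.biUnion (Set.toFinite _) fun h hh => ?_) this
    obtain ⟨p, q, -, e, -⟩ := hFix2 h hh
    rw [e]; exact Set.toFinite _
  have hPinv : ∀ (g : H) (W : Submodule k (Fin 2 → k)), W ∈ P → g • W ∈ P := by
    rintro g _ ⟨h, hh, u, hu, rfl, c, hc⟩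
    refine ⟨g * h * g⁻¹, fun hc' => hh ?_, (θ g : Matrix (Fin 2) (Fin 2) k) *ᵥ u, ?_,
      hline g u, c, ?_⟩
    · have := Subgroup.mem_center_iff.1 (hZc hc') g⁻¹
      have e : h = g * h * g⁻¹ := by
        calc h = g⁻¹ * (g * h * g⁻¹) * g := by group
          _ = g * h * g⁻¹ * g⁻¹ * g := by rw [this]
          _ = g * h * g⁻¹ := by group
      rwa [e]
    · intro h0
      apply hu
      have h' := congrArg (((θ g)⁻¹ : SL(2, k)).1 *ᵥ ·) h0
      simp only [Matrix.mulVec_mulVec, Matrix.mulVec_zero] at h'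
      rwa [← Matrix.SpecialLinearGroup.coe_mul, inv_mul_cancel, Matrix.SpecialLinearGroup.coe_one,
        Matrix.one_mulVec] at h'
    · rw [Matrix.mulVec_mulVec, ← Matrix.SpecialLinearGroup.coe_mul, ← map_mul,
        inv_mul_cancel_right, map_mul, Matrix.SpecialLinearGroup.coe_mul, ← Matrix.mulVec_mulVec,
        hc, Matrix.mulVec_smul]
  let S : SubMulAction H (Submodule k (Fin 2 → k)) := ⟨P, fun g W hW => hPinv g W hW⟩
  haveI : Finite S := hPfin.to_subtype
  have hfixedBy : ∀ h, h ∉ Z → ∀ W : S, h • W = W ↔ (W : Submodule k (Fin 2 → k)) ∈ Fix h := by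
    intro h hh W
    constructor
    · intro hW
      obtain ⟨g, hg, u, hu, hWe, -⟩ := W.2
      have h' : h • (W : Submodule k (Fin 2 → k)) = W := congrArg Subtype.val hW
      rw [hWe, hline] at h'
      obtain ⟨c, hc⟩ := Submodule.mem_span_singleton.1
        (h' ▸ Submodule.mem_span_singleton_self ((θ h : Matrix (Fin 2) (Fin 2) k) *ᵥ u))
      exact ⟨u, hu, hWe, c, hc.symm⟩
    · intro hW
      obtain ⟨p, q, -, -, hfix⟩ := hFix2 h hh
      exact Subtype.ext (hfix _ hW)
  refine (fun hex => ?_) (exists_perm_five_of_two_fixed (X := S) Z hZc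
    (fun z hz W => Subtype.ext (hzpm z hz W)) ?_ ?_ ?_ hgen hnab)
  · obtain ⟨π, hπ⟩ := hex
    refine ⟨π, fun h => ?_⟩
    rw [← MonoidHom.mem_ker, hπ]
    exact CfsgLib.SL2.mem_center_iff _
  · intro h hh
    obtain ⟨p, q, hpq, hF, -⟩ := hFix2 h hh
    have hpP : ∀ W ∈ Fix h, W ∈ P := fun W hW => ⟨h, hh, hW⟩
    have hp : p ∈ P := hpP p (by rw [hF]; exact Or.inl rfl)
    have hq : q ∈ P := hpP q (by rw [hF]; exact Or.inr rfl)
    have : MulAction.fixedBy S h = ({⟨p, hp⟩, ⟨q, hq⟩} : Set S) := by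
      ext W
      rw [MulAction.mem_fixedBy, hfixedBy h hh, hF]
      simp [Subtype.ext_iff]
    rw [Nat.card_coe_set_eq, this, Set.ncard_pair]
    exact fun e => hpq (congrArg Subtype.val e)
  · rintro ⟨W, h, hh, hW⟩
    exact ⟨h, hh, (hfixedBy h hh ⟨W, h, hh, hW⟩).2 hW⟩
  · intro W
    obtain ⟨g, hg, u, hu, hWe, -⟩ := W.2
    have heig : ∀ h : MulAction.stabilizer H W,
        ∃ c : k, (θ h : Matrix (Fin 2) (Fin 2) k) *ᵥ u = c • u := by
      intro h
      have h' : (h : H) • (W : Submodule k (Fin 2 → k)) = W := congrArg Subtype.val h.2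
      rw [hWe, hline] at h'
      obtain ⟨c, hc⟩ := Submodule.mem_span_singleton.1
        (h' ▸ Submodule.mem_span_singleton_self ((θ (h : H) : Matrix (Fin 2) (Fin 2) k) *ᵥ u))
      exact ⟨c, hc.symm⟩
    choose χ hχ using heig
    have huniq : ∀ c d : k, c • u = d • u → c = d := fun c d h => by
      rw [← sub_eq_zero, ← sub_smul, smul_eq_zero] at h
      exact sub_eq_zero.1 (h.resolve_right hu)
    let f : MulAction.stabilizer H W →* k :=
      { toFun := χ
        map_one' := huniq _ _ (by rw [← hχ]; simp)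
        map_mul' := fun a b => huniq _ _ (by
          rw [← hχ, Subgroup.coe_mul, map_mul, Matrix.SpecialLinearGroup.coe_mul,
            ← Matrix.mulVec_mulVec, hχ, Matrix.mulVec_smul, hχ, smul_smul, mul_comm]) }
    refine isCyclic_of_subgroup_isDomain f ?_
    intro a b hab
    suffices key : ∀ c, χ c = 1 → c = 1 by
      have hf : f (a⁻¹ * b) = 1 := by
        rw [map_mul, ← hab, ← map_mul, inv_mul_cancel, map_one]
      exact inv_mul_eq_one.1 (key _ hf)
    intro c hc
    apply Subtype.ext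
    apply hθ
    rw [Subgroup.coe_one, map_one]
    by_contra hne
    have hcu := hχ c
    rw [hc, one_smul] at hcu
    by_cases hZc' : θ c ∈ Subgroup.center (SL(2, k))
    · rcases (CfsgLib.SL2.mem_center_iff _).1 hZc' with e | e
      · exact hne e
      · apply hne
        rw [e] at hcu ⊢
        rw [Matrix.SpecialLinearGroup.coe_neg, Matrix.SpecialLinearGroup.coe_one, Matrix.neg_mulVec,
          Matrix.one_mulVec] at hcu
        apply Subtype.ext
        rw [Matrix.SpecialLinearGroup.coe_neg, Matrix.SpecialLinearGroup.coe_one]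
        have h2 : (-1 : k) = 1 := huniq _ _ (by rw [neg_smul, one_smul, hcu])
        rw [show (-1 : Matrix (Fin 2) (Fin 2) k) = (-1 : k) • 1 by simp, h2, one_smul]
    · obtain ⟨a', b', v, w, hab', hab1, hv, hw, hAv, hAw, -, huq⟩ :=
        exists_two_lines hcard (hA c) hZc'
      have key : ∀ (d : k) (x : Fin 2 → k), x ≠ 0 →
          (θ c : Matrix (Fin 2) (Fin 2) k) *ᵥ x = d • x →
          Submodule.span k {u} = Submodule.span k {x} → d = 1 := by
        intro d x hx hd hspan
        obtain ⟨s, rfl⟩ := Submodule.mem_span_singleton.1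
          (hspan ▸ Submodule.mem_span_singleton_self x)
        rw [Matrix.mulVec_smul, hcu] at hd
        have := sub_eq_zero.2 hd.symm
        rw [smul_smul, ← sub_smul, smul_eq_zero] at this
        have h3 := this.resolve_right hu
        have hs : s ≠ 0 := fun h0 => hx (by rw [h0, zero_smul])
        exact mul_right_cancel₀ hs (by rw [one_mul]; exact sub_eq_zero.1 h3)
      rcases huq 1 u hu (by rw [one_smul, hcu]) with h' | h'
      · have h1 := key a' v hv hAv h'
        rw [h1, one_mul] at hab1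
        exact hab' (h1.trans hab1.symm)
      · have h1 := key b' w hw hAw h'
        rw [h1, mul_one] at hab1
        exact hab' (hab1.trans h1.symm)

end CfsgLib.PermGroups
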