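import Mathlib.GroupTheory.GroupAction.Quotient
import Mathlib.GroupTheory.Sylow
import Mathlib.GroupTheory.SpecificGroups.Cyclic
import Mathlib.GroupTheory.Perm.Sign
import Mathlib.GroupTheory.Perm.ViaEmbedding
import Mathlib.Tactic

/-!
Finite groups acting with every non-trivial element fixing exactly two points, generated by elements
of order three: they embed in the permutations of five letters.
-/

set_option autoImplicit false
set_option linter.style.haveILetI false

namespace CfsgLib.PermGroups

open MulAction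

/-- A group of order 60 with the element orders and involution centralisers of `A₅` acts faithfully
on its five Sylow 2-subgroups. -/
theorem exists_perm_five_of_sixty {Q : Type*} [Group Q] [Finite Q] (h60 : Nat.card Q = 60)
    (hord : ∀ q : Q, q ^ 2 = 1 ∨ q ^ 3 = 1 ∨ q ^ 5 = 1)
    (hC : ∀ t : Q, orderOf t = 2 → Nat.card (Subgroup.centralizer ({t} : Set Q)) ≤ 4)
    (hI : Nat.card {t : Q // orderOf t = 2} = 15)
    (h3 : ∀ K : Subgroup Q, K.Normal → (∃ k ∈ K, k ≠ 1 ∧ k ^ 3 = 1) →
      ∀ q : Q, q ^ 3 = 1 → q ∈ K)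
    (hgen : Subgroup.closure {q : Q | q ^ 3 = 1} = ⊤) :
    ∃ π : Q →* Equiv.Perm (Fin 5), Function.Injective π := by
  classical
  haveI : Fact (Nat.Prime 2) := ⟨Nat.prime_two⟩
  have hf : (Nat.card Q).factorization 2 = 2 := by
    rw [h60, show (60 : ℕ) = 2 ^ 2 * 15 from rfl,
      Nat.factorization_mul (by norm_num) (by norm_num), Finsupp.add_apply,
      Nat.Prime.factorization_pow Nat.prime_two, Finsupp.single_eq_same,
      Nat.factorization_eq_zero_of_not_dvd (show ¬ (2 ∣ 15) by norm_num)]
  have hcard : ∀ V : Sylow 2 Q, Nat.card (V : Subgroup Q) = 4 := fun V => by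
    rw [V.card_eq_multiplicity, hf]; rfl
  have hinv : ∀ (V : Sylow 2 Q) (v : Q), v ∈ V → v ≠ 1 → orderOf v = 2 := by
    intro V v hv hne
    have hd : orderOf v ∣ 4 := by
      rw [← hcard V]; exact Subgroup.orderOf_dvd_natCard _ hv
    refine orderOf_eq_prime ?_ hne
    rcases hord v with h | h | h
    · exact h
    all_goals
      exfalso
      apply hne
      have h1 := Nat.dvd_gcd hd (orderOf_dvd_of_pow_eq_one h)
      norm_num at h1
      exact h1
  have hcomm : ∀ (V : Sylow 2 Q) (v w : Q), v ∈ V → w ∈ V → v * w = w * v := by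
    intro V v w hv hw
    have hsq : ∀ u : Q, u ∈ V → u * u = 1 := fun u hu => by
      rcases eq_or_ne u 1 with rfl | hne
      · simp
      · rw [← pow_two, ← hinv V u hu hne]; exact pow_orderOf_eq_one u
    have h1 := hsq _ (mul_mem hv hw)
    have h2 := hsq v hv
    have h3 := hsq w hw
    calc v * w = v * (v * w * (v * w)) * w := by rw [h1]; simp [mul_assoc]
      _ = (v * v) * (w * v) * (w * w) := by group
      _ = w * v := by rw [h2, h3]; group
  have huniq : ∀ (t : Q), orderOf t = 2 → ∀ V W : Sylow 2 Q, t ∈ V → t ∈ W → V = W := by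
    intro t ht V W hV hW
    have key : ∀ U : Sylow 2 Q, t ∈ U → (U : Subgroup Q) = Subgroup.centralizer {t} := fun U hU =>
      Subgroup.eq_of_le_of_card_ge
        (fun u hu => Subgroup.mem_centralizer_singleton_iff.2 (hcomm U u t hu hU))
        ((hC t ht).trans (hcard U).ge)
    exact Sylow.ext ((key V hV).trans (key W hW).symm)
  have hex : ∀ t : Q, orderOf t = 2 → ∃ V : Sylow 2 Q, t ∈ V := by
    intro t ht
    have hp : IsPGroup 2 (Subgroup.zpowers t) :=
      IsPGroup.of_card (n := 1) (by rw [Nat.card_zpowers, ht, pow_one])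
    obtain ⟨V, hV⟩ := hp.exists_le_sylow
    exact ⟨V, hV (Subgroup.mem_zpowers t)⟩
  -- five Sylow subgroups
  have hfive : Nat.card (Sylow 2 Q) = 5 := by
    let e : (Σ V : Sylow 2 Q, {v : (V : Subgroup Q) // (v : Q) ≠ 1}) →
        {t : Q // orderOf t = 2} :=
      fun x => ⟨x.2.1.1, hinv x.1 _ x.2.1.2 x.2.2⟩
    have he : Function.Bijective e := by
      constructor
      · rintro ⟨V, ⟨v, hv⟩, hv1⟩ ⟨W, ⟨w, hw⟩, hw1⟩ h
        obtain rfl : v = w := congrArg Subtype.val h
        obtain rfl := huniq v (hinv V v hv hv1) V W hv hw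
        rfl
      · rintro ⟨t, ht⟩
        obtain ⟨V, hV⟩ := hex t ht
        exact ⟨⟨V, ⟨t, hV⟩, fun h => by
          simp only at h
          rw [h, orderOf_one] at ht; norm_num at ht⟩, rfl⟩
    haveI : Finite (Sylow 2 Q) := inferInstance
    haveI := Fintype.ofFinite (Sylow 2 Q)
    rw [← Nat.card_congr (Equiv.ofBijective e he), Nat.card_sigma] at hI
    have h3 : ∀ V : Sylow 2 Q, Nat.card {v : (V : Subgroup Q) // (v : Q) ≠ 1} = 3 := by
      intro V
      haveI := Fintype.ofFinite (V : Subgroup Q)
      rw [Nat.card_eq_fintype_card, Fintype.card_subtype_compl]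
      rw [← Nat.card_eq_fintype_card, hcard V]
      rw [show Fintype.card {v : (V : Subgroup Q) // (v : Q) = 1} = 1 from
        Fintype.card_eq_one_iff.2 ⟨⟨1, rfl⟩, fun v => Subtype.ext (Subtype.ext v.2)⟩]
    rw [Finset.sum_congr rfl (fun V _ => h3 V), Finset.sum_const, Finset.card_univ,
      smul_eq_mul] at hI
    rw [Nat.card_eq_fintype_card]; omega
  obtain ⟨eS⟩ : Nonempty (Sylow 2 Q ≃ Fin 5) := ⟨(Finite.equivFin _).trans (finCongr hfive)⟩
  let f : Q →* Equiv.Perm (Sylow 2 Q) := MulAction.toPermHom Q (Sylow 2 Q)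
  refine ⟨eS.permCongrHom.toMonoidHom.comp f, eS.permCongrHom.injective.comp ?_⟩
  show Function.Injective f
  rw [← MonoidHom.ker_eq_bot_iff]
  set K := f.ker with hK
  have hKN : ∀ V : Sylow 2 Q, K ≤ Subgroup.normalizer (V : Set Q) := by
    intro V g hg
    rw [← Sylow.smul_eq_iff_mem_normalizer]
    exact Equiv.congr_fun (MonoidHom.mem_ker.1 hg) V
  obtain ⟨V₀⟩ := (inferInstance : Nonempty (Sylow 2 Q))
  have hN : Nat.card (Subgroup.normalizer (V₀ : Set Q)) = 12 := by
    have h1 := Subgroup.card_mul_index (Subgroup.normalizer (V₀ : Set Q))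
    rw [← V₀.card_eq_index_normalizer, hfive, h60] at h1
    omega
  have hKdvd : Nat.card K ∣ 12 := hN ▸ Subgroup.card_dvd_of_le (hKN V₀)
  have hno3 : ¬ 3 ∣ Nat.card K := by
    intro hd
    haveI : Fact (Nat.Prime 3) := ⟨Nat.prime_three⟩
    obtain ⟨k, hk⟩ := exists_prime_orderOf_dvd_card' 3 hd
    have hk' : orderOf (k : Q) = 3 := by rw [Subgroup.orderOf_coe]; exact hk
    have htop : K = ⊤ := by
      rw [eq_top_iff, ← hgen, Subgroup.closure_le]
      intro q hq
      refine h3 K inferInstance ⟨k, k.2, ?_, ?_⟩ q hq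
      · intro h; rw [h, orderOf_one] at hk'; norm_num at hk'
      · rw [← hk']; exact pow_orderOf_eq_one _
    rw [htop, Subgroup.card_top, h60] at hKdvd
    norm_num at hKdvd
  have hK2 : IsPGroup 2 K := by
    obtain ⟨k, -, hk⟩ := (Nat.dvd_prime_pow Nat.prime_two).1
      ((Nat.Coprime.dvd_of_dvd_mul_right ((Nat.prime_three.coprime_iff_not_dvd.2 hno3).symm)
        (show Nat.card K ∣ 2 ^ 2 * 3 from hKdvd)))
    exact IsPGroup.of_card hk
  rw [eq_bot_iff]
  intro k hk
  rw [Subgroup.mem_bot]
  by_contra hne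
  haveI : K.Normal := by rw [hK]; infer_instance
  have hall : ∀ V : Sylow 2 Q, k ∈ V := by
    intro V
    exact hK2.le_sylow_of_normal V hk
  obtain ⟨V, hV⟩ : ∃ V : Sylow 2 Q, V ≠ V₀ := by
    haveI : Nontrivial (Sylow 2 Q) := Finite.one_lt_card_iff_nontrivial.1 (by omega)
    exact exists_ne V₀
  exact hV (huniq k (hinv V k (hall V) hne) V V₀ (hall V) (hall V₀))


/-- The solutions of the orbit equation. -/
theorem klein_arith (N : ℕ) (o n : Fin 3 → ℕ) (hn : ∀ i, 2 ≤ n i) (hon : ∀ i, o i * n i = N)
    (ho : ∀ i, 3 ≤ o i) (hsum : o 0 + o 1 + o 2 = N + 2) :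
    ∃ i j l : Fin 3, i ≠ j ∧ i ≠ l ∧ j ≠ l ∧ n i = 2 ∧ n j = 3 ∧
      ((n l = 3 ∧ N = 12) ∨ (n l = 4 ∧ N = 24) ∨ (n l = 5 ∧ N = 60)) := by
  have hsum' : ∀ i j l : Fin 3, i ≠ j → i ≠ l → j ≠ l → o i + o j + o l = N + 2 := by
    intro i j l
    fin_cases i <;> fin_cases j <;> fin_cases l <;> simp_all <;> omega
  obtain ⟨i, hi⟩ : ∃ i, n i = 2 := by
    by_contra hne
    push Not at hne
    have h : ∀ i, 3 * o i ≤ N := fun i => by
      have := hn i; have := hne i; have := hon i
      have : 3 ≤ n i := by omega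
      nlinarith
    have := h 0; have := h 1; have := h 2
    omega
  obtain ⟨a, b, hia, hib, hab⟩ : ∃ a b : Fin 3, i ≠ a ∧ i ≠ b ∧ a ≠ b := by
    fin_cases i
    · exact ⟨1, 2, by decide, by decide, by decide⟩
    · exact ⟨0, 2, by decide, by decide, by decide⟩
    · exact ⟨0, 1, by decide, by decide, by decide⟩
  have hN := hon i
  rw [hi] at hN
  have key : ∀ j l : Fin 3, i ≠ j → i ≠ l → j ≠ l → n j ≤ 3 →
      ∃ i j l : Fin 3, i ≠ j ∧ i ≠ l ∧ j ≠ l ∧ n i = 2 ∧ n j = 3 ∧
      ((n l = 3 ∧ N = 12) ∨ (n l = 4 ∧ N = 24) ∨ (n l = 5 ∧ N = 60)) := by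
    intro j l hij hil hjl hj
    have h := hsum' i j l hij hil hjl
    have hj2 := hn j
    have hNj := hon j
    have hNl := hon l
    have := ho l
    interval_cases hnj : n j
    · omega
    · have hl : n l ≤ 5 := by
        by_contra hc
        push Not at hc
        have : 6 * o l ≤ o l * n l := by rw [mul_comm 6]; exact Nat.mul_le_mul_left _ hc
        omega
      have hl2 := hn l
      have := ho i
      have := ho j
      refine ⟨i, j, l, hij, hil, hjl, hi, hnj, ?_⟩
      interval_cases hnl : n l <;> omega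
  by_cases ha : n a ≤ 3
  · exact key a b hia hib hab ha
  by_cases hb : n b ≤ 3
  · exact key b a hib hia hab.symm hb
  exfalso
  push Not at ha hb
  have := hsum' i a b hia hib hab
  have : 4 * o a ≤ o a * n a := by rw [mul_comm 4]; exact Nat.mul_le_mul_left _ ha
  have : 4 * o b ≤ o b * n b := by rw [mul_comm 4]; exact Nat.mul_le_mul_left _ hb
  have := hon a
  have := hon b
  omega

/-- A four-cycle on six letters is odd. -/
theorem sign_eq_neg_one_six : ∀ σ : Equiv.Perm (Fin 6), σ ^ 4 = 1 → σ ^ 2 ≠ 1 →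
    (Finset.univ.filter fun x => (σ ^ 2) x = x).card ≤ 2 → (∃ p, σ p = p) →
    Equiv.Perm.sign σ = -1 := by
  decide +kernel

section Abstract

variable {H : Type*} [Group H] [Finite H] {X : Type*} [Finite X] [MulAction H X]

/-- Klein's classification, in the abstract form: a non-abelian group generated by elements of
order three, acting so that the elements outside a central subgroup `Z` fix exactly two points and
with cyclic point stabilisers, has a permutation representation on five letters with kernel `Z`. -/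
theorem exists_perm_five_of_two_fixed (Z : Subgroup H) (hZc : Z ≤ Subgroup.center H)
    (hZfix : ∀ z ∈ Z, ∀ x : X, z • x = x)
    (h2 : ∀ h, h ∉ Z → Nat.card (fixedBy X h) = 2)
    (hstab : ∀ x : X, ∃ h, h ∉ Z ∧ h • x = x)
    (hcyc : ∀ x : X, IsCyclic (stabilizer H x))
    (hgen : Subgroup.closure {h : H | h ^ 3 = 1} = ⊤) (hnab : ¬ IsMulCommutative H) :
    ∃ π : H →* Equiv.Perm (Fin 5), π.ker = Z := by
  classical
  haveI := Fintype.ofFinite H
  haveI := Fintype.ofFinite X
  haveI hZn : Z.Normal := ⟨fun z hz g => by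
    rw [Subgroup.mem_center_iff.1 (hZc hz) g]; simpa using hz⟩
  set e := Nat.card Z with he
  set N := Z.index with hN
  have hepos : 0 < e := Nat.card_pos
  have hM : e * N = Nat.card H := Z.card_mul_index
  have hZle : ∀ x : X, Z ≤ stabilizer H x := fun x z hz => mem_stabilizer_iff.2 (hZfix z hz x)
  let f : H →* H ⧸ Z := QuotientGroup.mk' Z
  have hfker : f.ker = Z := QuotientGroup.ker_mk' Z
  let n : X → ℕ := fun x => Nat.card ((stabilizer H x).map f)
  have hn : ∀ x : X, e * n x = Nat.card (stabilizer H x) := by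
    intro x
    have h1 : n x = Z.relIndex (stabilizer H x) := by
      show Nat.card ((stabilizer H x).map f) = _
      rw [← Subgroup.relIndex_ker, hfker]
    rw [h1, Subgroup.relIndex,
      show e = Nat.card (Z.subgroupOf (stabilizer H x)) from
        (Nat.card_congr (Subgroup.subgroupOfEquivOfLe (hZle x)).toEquiv).symm,
      Subgroup.card_mul_index]
  have hon : ∀ x : X, Nat.card (orbit H x) * n x = N := by
    intro x
    have h1 := Subgroup.card_mul_index (stabilizer H x)
    rw [← hn x, index_stabilizer, ← hM] at h1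
    rw [← Nat.card_coe_set_eq, mul_assoc, mul_comm (n x)] at h1
    exact Nat.eq_of_mul_eq_mul_left hepos h1
  have hn2 : ∀ x : X, 2 ≤ n x := by
    intro x
    obtain ⟨h, hh, hx⟩ := hstab x
    by_contra hlt
    apply hh
    have hz : Z = stabilizer H x :=
      Subgroup.eq_of_le_of_card_ge (hZle x) (by
        rw [← hn x]
        calc e * n x ≤ e * 1 := Nat.mul_le_mul_left _ (by omega)
          _ = _ := by rw [mul_one])
    rw [hz]; exact hx
  have horb3 : ∀ x : X, 3 ≤ Nat.card (orbit H x) := by
    intro x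
    have hpos : 0 < Nat.card (orbit H x) := by
      have : Nonempty (orbit H x) := ⟨⟨x, mem_orbit_self x⟩⟩
      exact Nat.card_pos
    have hidx : (stabilizer H x).index = Nat.card (orbit H x) := by
      rw [index_stabilizer, Nat.card_coe_set_eq]
    by_contra hlt
    have htop : stabilizer H x = ⊤ := by
      rcases (show Nat.card (orbit H x) = 1 ∨ Nat.card (orbit H x) = 2 by omega) with h | h
      · rw [← Subgroup.index_eq_one, hidx, h]
      · rw [eq_top_iff, ← hgen, Subgroup.closure_le]
        intro g hg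
        have h' : (stabilizer H x).index = 2 := by rw [hidx, h]
        have : (g ^ 2) ^ 2 ∈ stabilizer H x := Subgroup.sq_mem_of_index_two h' _
        rwa [← pow_mul, show (2 * 2 : ℕ) = 3 + 1 from rfl, pow_succ, hg, one_mul] at this
    apply hnab
    haveI := hcyc x
    have e : stabilizer H x ≃* H := (MulEquiv.subgroupCongr htop).trans Subgroup.topEquiv
    refine IsMulCommutative.of_comm fun a b => ?_
    obtain ⟨g, hg⟩ := IsCyclic.exists_generator (α := stabilizer H x)
    obtain ⟨i, hi⟩ := Subgroup.mem_zpowers_iff.1 (hg (e.symm a))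
    obtain ⟨j, hj⟩ := Subgroup.mem_zpowers_iff.1 (hg (e.symm b))
    apply e.symm.injective
    rw [map_mul, map_mul, ← hi, ← hj, ← zpow_add, ← zpow_add, add_comm]
  -- Burnside
  set r := Fintype.card (Quotient (orbitRel H X)) with hr
  have hburn : e * Nat.card X + 2 * (Nat.card H - e) = r * Nat.card H := by
    rw [Nat.card_eq_fintype_card (α := H), hr,
      ← sum_card_fixedBy_eq_card_orbits_mul_card_group H X]
    have : ∀ h : H, Fintype.card (fixedBy X h) = if h ∈ Z then Nat.card X else 2 := by
      intro h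
      split_ifs with hz
      · rw [Nat.card_eq_fintype_card]
        exact Fintype.card_congr (Equiv.subtypeUnivEquiv fun x => hZfix h hz x)
      · rw [← Nat.card_eq_fintype_card]; exact h2 h hz
    simp only [this]
    rw [Finset.sum_ite, Finset.sum_const, Finset.sum_const, smul_eq_mul, smul_eq_mul,
      Finset.filter_not, Finset.card_univ_diff,
      show (Finset.univ.filter fun h : H => h ∈ Z).card = e by
        rw [he, Nat.card_eq_fintype_card, Fintype.card_subtype]]
    ring
  let rep : Quotient (orbitRel H X) → X := Quotient.out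
  have hP : Nat.card X = ∑ ω, Nat.card (orbit H (rep ω)) := by
    rw [Nat.card_congr (selfEquivSigmaOrbits H X), Nat.card_sigma]
  have hmem : ∀ x : X, x ∈ orbit H (rep ⟦x⟧) := fun x =>
    (Quotient.exact (Quotient.out_eq ⟦x⟧).symm : orbitRel H X x (rep ⟦x⟧))
  have hNN : Nat.card X + 2 * (N - 1) = r * N := by
    apply Nat.eq_of_mul_eq_mul_left hepos
    calc e * (Nat.card X + 2 * (N - 1)) = e * Nat.card X + 2 * (e * N - e) := by
          rw [mul_add, mul_left_comm e 2, Nat.mul_sub_one]
      _ = e * (r * N) := by rw [hM, hburn, ← hM]; ring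
  have hN2 : 2 ≤ N := by
    by_contra hlt
    apply hnab
    have h1 : N = 1 := by
      have : N ≠ 0 := Subgroup.index_ne_zero_of_finite
      omega
    have hZtop : Z = ⊤ := Subgroup.index_eq_one.1 h1
    exact IsMulCommutative.of_comm fun a b =>
      (Subgroup.mem_center_iff.1 (hZc (hZtop ▸ Subgroup.mem_top b)) a)
  have hr3 : r = 3 := by
    have hle : 2 * Nat.card X ≤ r * N := by
      rw [hP, Finset.mul_sum, hr, ← Finset.card_univ, ← smul_eq_mul, ← Finset.sum_const]
      refine Finset.sum_le_sum fun ω _ => ?_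
      have := hon (rep ω); have := hn2 (rep ω)
      nlinarith
    have hge : 3 * r ≤ Nat.card X := by
      rw [hP, hr, ← Finset.card_univ, mul_comm, ← smul_eq_mul, ← Finset.sum_const]
      exact Finset.sum_le_sum fun ω _ => horb3 (rep ω)
    have h4 : r < 4 := by
      by_contra hc
      have : 4 * N ≤ r * N := Nat.mul_le_mul_right _ (by omega)
      omega
    interval_cases r <;> omega
  obtain ⟨ω⟩ : Nonempty (Fin 3 ≃ Quotient (orbitRel H X)) :=
    ⟨(Fintype.equivFinOfCardEq hr3).symm⟩
  let x : Fin 3 → X := fun i => rep (ω i)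
  have hxsum : Nat.card (orbit H (x 0)) + Nat.card (orbit H (x 1)) + Nat.card (orbit H (x 2))
      = N + 2 := by
    have h : Nat.card X = ∑ i, Nat.card (orbit H (x i)) := by
      rw [hP]; exact (Equiv.sum_comp ω fun w => Nat.card (orbit H (rep w))).symm
    rw [Fin.sum_univ_three] at h
    rw [hr3] at hNN
    omega
  have hcov : ∀ y : X, ∃ m, y ∈ orbit H (x m) := fun y =>
    ⟨ω.symm ⟦y⟧, by simpa [x] using hmem y⟩
  obtain ⟨i, j, l, hij, hil, hjl, hni, hnj, hcase⟩ := klein_arith N
    (fun m => Nat.card (orbit H (x m))) (fun m => n (x m)) (fun m => hn2 _) (fun m => hon _)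
    (fun m => horb3 _) hxsum
  have hconj : ∀ (g : H) (y : X), stabilizer H (g • y) =
      (stabilizer H y).map (MulAut.conj g).toMonoidHom := stabilizer_smul_eq_stabilizer_map_conj
  have hn_orbit : ∀ y z : X, y ∈ orbit H z → n y = n z := by
    rintro y z ⟨g, rfl⟩
    show n (g • z) = n z
    apply Nat.eq_of_mul_eq_mul_left hepos
    rw [hn, hn, hconj, Subgroup.card_map_of_injective (MulEquiv.injective _)]
  have hnval : ∀ y : X, n y = 2 ∨ n y = 3 ∨ n y = n (x l) := by
    intro y
    obtain ⟨m, hm⟩ := hcov y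
    rw [hn_orbit y _ hm]
    have : m = i ∨ m = j ∨ m = l := by
      revert hij hil hjl
      clear! hni hnj hcase hm
      fin_cases i <;> fin_cases j <;> fin_cases l <;> fin_cases m <;> simp
    rcases this with rfl | rfl | rfl
    · exact Or.inl hni
    · exact Or.inr (Or.inl hnj)
    · exact Or.inr (Or.inr rfl)
  rcases hcase with ⟨hnl, h12⟩ | ⟨hnl, h24⟩ | ⟨hnl, h60⟩
  · -- four points
    have h4 : Nat.card (orbit H (x j)) = 4 := by
      have := hon (x j); rw [hnj, h12] at this; omega
    let θ : H →* Equiv.Perm (orbit H (x j)) := toPermHom H _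
    haveI : Fintype (orbit H (x j)) := Fintype.ofFinite _
    obtain ⟨ι⟩ : Nonempty (orbit H (x j) ↪ Fin 5) :=
      Function.Embedding.nonempty_of_card_le (by
        rw [← Nat.card_eq_fintype_card, h4, Fintype.card_fin]; norm_num)
    refine ⟨(Equiv.Perm.viaEmbeddingHom ι).comp θ, ?_⟩
    rw [show ((Equiv.Perm.viaEmbeddingHom ι).comp θ).ker = θ.ker by
      ext h
      simp only [MonoidHom.mem_ker, MonoidHom.comp_apply,
        map_eq_one_iff _ (Equiv.Perm.viaEmbeddingHom_injective ι)]]
    refine le_antisymm (fun h hh => ?_) (fun z hz => MonoidHom.mem_ker.2 <| Equiv.ext fun p =>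
      Subtype.ext (hZfix z hz p))
    by_contra hz
    have hle : orbit H (x j) ⊆ fixedBy X h := fun p hp => by
      have := Equiv.congr_fun (MonoidHom.mem_ker.1 hh) ⟨p, hp⟩
      exact congrArg Subtype.val this
    have := Nat.card_mono (Set.toFinite _) hle
    rw [h4, h2 h hz] at this
    omega
  · -- six points: impossible
    exfalso
    have h6 : Nat.card (orbit H (x l)) = 6 := by
      have := hon (x l); rw [hnl, h24] at this; omega
    haveI : Fintype (orbit H (x l)) := Fintype.ofFinite _
    obtain ⟨ε⟩ : Nonempty (orbit H (x l) ≃ Fin 6) :=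
      ⟨(Finite.equivFin _).trans (finCongr h6)⟩
    let θ : H →* Equiv.Perm (Fin 6) := ε.permCongrHom.toMonoidHom.comp (toPermHom H _)
    haveI := hcyc (x l)
    obtain ⟨g, hg⟩ := IsCyclic.exists_generator (α := stabilizer H (x l))
    have hmap : (stabilizer H (x l)).map f = Subgroup.zpowers (f g) := by
      apply le_antisymm
      · rintro _ ⟨k, hk, rfl⟩
        obtain ⟨m, hm⟩ := Subgroup.mem_zpowers_iff.1 (hg ⟨k, hk⟩)
        exact ⟨m, by show f g ^ m = f k; rw [← map_zpow, ← SubgroupClass.coe_zpow, hm]⟩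
      · rw [Subgroup.zpowers_le]; exact Subgroup.mem_map_of_mem f g.2
    have hord : orderOf (f g) = 4 := by
      rw [← Nat.card_zpowers, ← hmap]; exact hnl
    have hmemZ : ∀ k : H, k ∈ Z ↔ f k = 1 := fun k => (QuotientGroup.eq_one_iff k).symm
    have hg4 : ((g : H) ^ 4) ∈ Z := by rw [hmemZ, map_pow, ← hord]; exact pow_orderOf_eq_one _
    have hg2 : ((g : H) ^ 2) ∉ Z := fun hc => by
      rw [hmemZ, map_pow] at hc
      have := orderOf_dvd_of_pow_eq_one hc
      rw [hord] at this
      norm_num at this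
    have hθ : ∀ (k : H) (a : Fin 6), θ k a = ε (k • ε.symm a) := fun k a => rfl
    have hs4 : θ g ^ 4 = 1 := by
      rw [← map_pow]
      ext1 a
      rw [hθ]
      have : (g : H) ^ 4 • ε.symm a = ε.symm a := Subtype.ext (hZfix _ hg4 _)
      rw [this]; simp
    have hfix2 : (Finset.univ.filter fun a => (θ g ^ 2) a = a).card ≤ 2 := by
      rw [← Fintype.card_subtype, ← Nat.card_eq_fintype_card]
      refine le_trans ?_ (h2 _ hg2).le
      refine Nat.card_le_card_of_injective
        (fun a => ⟨((ε.symm a.1 : orbit H (x l)) : X), ?_⟩) ?_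
      · have ha : θ ((g : H) ^ 2) a.1 = a.1 :=
          (DFunLike.congr_fun (map_pow θ (g : H) 2) a.1).trans a.2
        rw [hθ] at ha
        have := congrArg ε.symm ha
        rw [Equiv.symm_apply_apply] at this
        exact congrArg Subtype.val this
      · intro a b hab
        exact Subtype.ext (ε.symm.injective (Subtype.ext (congrArg (fun w => w.1) hab)))
    have hs2 : θ g ^ 2 ≠ 1 := by
      intro hc
      rw [hc] at hfix2
      simp at hfix2
    have hodd := sign_eq_neg_one_six (θ g) hs4 hs2 hfix2 ⟨ε ⟨x l, mem_orbit_self _⟩, by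
      rw [hθ, Equiv.symm_apply_apply]
      exact congrArg ε (Subtype.ext g.2)⟩
    have heven : Subgroup.closure {h : H | h ^ 3 = 1} ≤ (Equiv.Perm.sign.comp θ).ker := by
      rw [Subgroup.closure_le]
      intro h hh
      rw [SetLike.mem_coe, MonoidHom.mem_ker]
      have h3 : (Equiv.Perm.sign.comp θ) h ^ 3 = 1 := by rw [← map_pow, hh, map_one]
      rcases Int.units_eq_one_or ((Equiv.Perm.sign.comp θ) h) with h1 | h1
      · exact h1
      · rw [h1] at h3; exact absurd h3 (by decide)
    rw [hgen] at heven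
    have := heven (Subgroup.mem_top (g : H))
    rw [MonoidHom.mem_ker, MonoidHom.comp_apply, hodd] at this
    exact absurd this (by decide)
  · -- five Sylow subgroups
    rw [hnl] at hnval
    have hQ : Nat.card (H ⧸ Z) = 60 := h60
    have hstabQ : ∀ h, h ∉ Z → ∀ y : X, h • y = y → orderOf (f h) ∣ n y := fun h _ y hy =>
      Subgroup.orderOf_dvd_natCard _ (Subgroup.mem_map_of_mem f (mem_stabilizer_iff.2 hy))
    have hfix : ∀ h, h ∉ Z → ∃ y : X, h • y = y := fun h hh => by
      have : 0 < Nat.card (fixedBy X h) := by rw [h2 h hh]; norm_num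
      obtain ⟨⟨y, hy⟩⟩ := (Nat.card_pos_iff.1 this).1
      exact ⟨y, hy⟩
    have hmemZ : ∀ k : H, f k = 1 ↔ k ∈ Z := fun k => QuotientGroup.eq_one_iff k
    have hord : ∀ q : H ⧸ Z, q ^ 2 = 1 ∨ q ^ 3 = 1 ∨ q ^ 5 = 1 := by
      intro q
      obtain ⟨h, rfl⟩ := QuotientGroup.mk'_surjective Z q
      by_cases hh : h ∈ Z
      · left; rw [(hmemZ h).2 hh]; simp
      obtain ⟨y, hy⟩ := hfix h hh
      have hd := hstabQ h hh y hy
      rcases hnval y with h' | h' | h' <;> rw [h'] at hd
      · exact Or.inl (orderOf_dvd_iff_pow_eq_one.1 hd)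
      · exact Or.inr (Or.inl (orderOf_dvd_iff_pow_eq_one.1 hd))
      · exact Or.inr (Or.inr (orderOf_dvd_iff_pow_eq_one.1 hd))
    have horbit : ∀ (p : ℕ) (m : Fin 3), n (x m) = p → (∀ m', n (x m') = p → m' = m) →
        ∀ h, h ∉ Z → orderOf (f h) = p → ∀ y : X, h • y = y → p.Prime →
          y ∈ orbit H (x m) ∧ (stabilizer H y).map f = Subgroup.zpowers (f h) := by
      intro p m hm hum h hh hp y hy hpp
      have hd := hstabQ h hh y hy
      rw [hp] at hd
      have hny : n y = p := by
        rcases hnval y with h' | h' | h' <;> rw [h'] at hd ⊢ <;>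
          exact ((Nat.prime_dvd_prime_iff_eq hpp (by norm_num)).1 hd).symm
      obtain ⟨m', hm'⟩ := hcov y
      have := hum m' (by rw [← hn_orbit y _ hm', hny])
      subst this
      refine ⟨hm', (Subgroup.eq_of_le_of_card_ge ?_ ?_).symm⟩
      · rw [Subgroup.zpowers_le]; exact Subgroup.mem_map_of_mem f (mem_stabilizer_iff.2 hy)
      · rw [Nat.card_zpowers, hp]; exact hny.le
    have huni : ∀ m m' : Fin 3, n (x m) = n (x m') → m = m' := by
      intro m m'
      have : ∀ q : Fin 3, q = i ∨ q = j ∨ q = l := by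
        revert hij hil hjl
        clear! hni hnj hnl
        fin_cases i <;> fin_cases j <;> fin_cases l <;> decide
      rcases this m with rfl | rfl | rfl <;> rcases this m' with rfl | rfl | rfl <;>
        first | (intro _; rfl) | (rw [hni, hnj]; omega) | (rw [hni, hnl]; omega) |
          (rw [hnj, hnl]; omega) | (rw [hnj, hni]; omega) | (rw [hnl, hni]; omega) |
          (rw [hnl, hnj]; omega)
    have hC : ∀ t : H ⧸ Z, orderOf t = 2 →
        Nat.card (Subgroup.centralizer ({t} : Set (H ⧸ Z))) ≤ 4 := by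
      intro t ht
      obtain ⟨g, rfl⟩ := QuotientGroup.mk'_surjective Z t
      have hg : g ∉ Z := fun hc => by
        rw [(hmemZ g).2 hc, orderOf_one] at ht; norm_num at ht
      obtain ⟨y, hy⟩ := hfix g hg
      have hny : n y = 2 := by
        have hd := hstabQ g hg y hy
        rw [ht] at hd
        rcases hnval y with h' | h' | h' <;> rw [h'] at hd ⊢ <;> norm_num at hd
      set S := (Subgroup.centralizer ({f g} : Set (H ⧸ Z))).comap f with hS
      have hSfix : ∀ s ∈ S, s • y ∈ fixedBy X g := by
        intro s hs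
        rw [hS, Subgroup.mem_comap, Subgroup.mem_centralizer_singleton_iff, ← map_mul,
          ← map_mul] at hs
        have hz : (s * g)⁻¹ * (g * s) ∈ Z := by
          rw [← hmemZ, map_mul, map_inv, hs, inv_mul_cancel]
        show g • s • y = s • y
        calc g • s • y = ((s * g) * ((s * g)⁻¹ * (g * s))) • y := by
              rw [mul_inv_cancel_left, mul_smul]
          _ = s • y := by rw [mul_smul, hZfix _ hz, mul_smul, hy]
      have h1 := card_orbit_mul_card_stabilizer_eq_card_group S y
      simp only [← Nat.card_eq_fintype_card] at h1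
      have horb : Nat.card (orbit S y) ≤ 2 := by
        rw [← h2 g hg]
        refine Nat.card_mono (Set.toFinite _) ?_
        rintro _ ⟨s, rfl⟩
        exact hSfix s s.2
      have hst : Nat.card (stabilizer S y) ≤ e * 2 := by
        rw [← hny, hn]
        exact Nat.card_le_card_of_injective
          (fun s => (⟨((s : S) : H), s.2⟩ : stabilizer H y))
          (fun a b hab => by injection hab with h; exact Subtype.ext (Subtype.ext h))
      have hcardS : Nat.card S = e * Nat.card (Subgroup.centralizer ({f g} : Set (H ⧸ Z))) := by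
        have h3 := Subgroup.card_mul_index S
        have h4 := Subgroup.card_mul_index (Subgroup.centralizer ({f g} : Set (H ⧸ Z)))
        rw [hS, Subgroup.index_comap_of_surjective _ (QuotientGroup.mk'_surjective Z), ← hS] at h3
        have hi0 : (Subgroup.centralizer ({f g} : Set (H ⧸ Z))).index ≠ 0 :=
          Subgroup.index_ne_zero_of_finite
        apply Nat.eq_of_mul_eq_mul_right (Nat.pos_of_ne_zero hi0)
        rw [h3, mul_assoc, h4, ← hM]
        rfl
      have : e * Nat.card (Subgroup.centralizer ({f g} : Set (H ⧸ Z))) ≤ e * 4 := by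
        rw [← hcardS, ← h1]
        calc _ ≤ 2 * (e * 2) := Nat.mul_le_mul horb hst
          _ = e * 4 := by ring
      exact Nat.le_of_mul_le_mul_left this hepos
    have hI : Nat.card {t : H ⧸ Z // orderOf t = 2} = 15 := by
      have h30 : Nat.card (orbit H (x i)) = 30 := by
        have := hon (x i); rw [hni, h60] at this; omega
      have hno : ∀ y : orbit H (x i), ∃ h, h ∉ Z ∧ h • (y : X) = y ∧ orderOf (f h) = 2 := by
        intro y
        obtain ⟨h, hh, hy⟩ := hstab y
        refine ⟨h, hh, hy, ?_⟩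
        have hd := hstabQ h hh y hy
        rw [hn_orbit _ _ y.2, hni] at hd
        exact ((Nat.prime_def.1 Nat.prime_two).2 _ hd).resolve_left
          (fun h1 => hh ((hmemZ h).1 (orderOf_eq_one_iff.1 h1)))
      choose h0 hh0 hfix0 hord0 using hno
      let ι : orbit H (x i) → {t : H ⧸ Z // orderOf t = 2} := fun y => ⟨f (h0 y), hord0 y⟩
      have hfib : ∀ t, Nat.card {y // ι y = t} = 2 := by
        rintro ⟨t, ht⟩
        obtain ⟨g, rfl⟩ := QuotientGroup.mk'_surjective Z t
        have hg : g ∉ Z := fun hc => by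
          rw [(hmemZ g).2 hc, orderOf_one] at ht; norm_num at ht
        have hi' := horbit 2 i hni (fun m' hm' => huni _ _ (hm'.trans hni.symm))
        refine (Nat.card_congr ?_).trans (h2 g hg)
        refine
          { toFun := fun y => ⟨((y.1 : orbit H (x i)) : X), ?_⟩
            invFun := fun y => ⟨⟨y.1, (hi' g hg ht y.1 y.2 Nat.prime_two).1⟩, ?_⟩
            left_inv := fun y => rfl
            right_inv := fun y => rfl }
        · have hy : f (h0 y.1) = f g := congrArg Subtype.val y.2
          have hz : (h0 y.1)⁻¹ * g ∈ Z := by rw [← hmemZ, map_mul, map_inv, hy, inv_mul_cancel]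
          show g • (y.1 : X) = y.1
          calc g • (y.1 : X) = (h0 y.1 * ((h0 y.1)⁻¹ * g)) • (y.1 : X) := by
                rw [mul_inv_cancel_left]
            _ = y.1 := by rw [mul_smul, hZfix _ hz, hfix0]
        · apply Subtype.ext
          show f (h0 _) = f g
          have hA := (hi' g hg ht y.1 y.2 Nat.prime_two).2
          have hmem : f (h0 ⟨y.1, (hi' g hg ht y.1 y.2 Nat.prime_two).1⟩) ∈
              Subgroup.zpowers (f g) := by
            exact hA.le (Subgroup.mem_map_of_mem f (mem_stabilizer_iff.2 (hfix0 _)))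
          obtain ⟨m, hm⟩ := Subgroup.mem_zpowers_iff.1 hmem
          rw [← hm, ← zpow_mod_orderOf, ht]
          rcases Int.emod_two_eq_zero_or_one m with h0' | h1'
          · exfalso
            rw [← zpow_mod_orderOf, ht] at hm
            push_cast at hm
            rw [h0', zpow_zero] at hm
            exact hh0 _ ((hmemZ _).1 hm.symm)
          · push_cast; rw [h1', zpow_one]
      have hsum := Nat.card_congr (Equiv.sigmaFiberEquiv ι).symm
      rw [h30] at hsum
      haveI := Fintype.ofFinite {t : H ⧸ Z // orderOf t = 2}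
      rw [Nat.card_sigma, Finset.sum_congr rfl (fun t _ => hfib t), Finset.sum_const,
        Finset.card_univ, smul_eq_mul, ← Nat.card_eq_fintype_card] at hsum
      omega
    have h3 : ∀ K : Subgroup (H ⧸ Z), K.Normal → (∃ k ∈ K, k ≠ 1 ∧ k ^ 3 = 1) →
        ∀ q : H ⧸ Z, q ^ 3 = 1 → q ∈ K := by
      intro K hK ⟨k, hkK, hk1, hk3⟩ q hq
      rcases eq_or_ne q 1 with rfl | hq1
      · exact K.one_mem
      obtain ⟨a, rfl⟩ := QuotientGroup.mk'_surjective Z k
      obtain ⟨b, rfl⟩ := QuotientGroup.mk'_surjective Z q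
      have ha : a ∉ Z := fun hc => hk1 ((hmemZ a).2 hc)
      have hb : b ∉ Z := fun hc => hq1 ((hmemZ b).2 hc)
      obtain ⟨y, hy⟩ := hfix a ha
      obtain ⟨y', hy'⟩ := hfix b hb
      have hj' := horbit 3 j hnj (fun m' hm' => huni _ _ (hm'.trans hnj.symm))
      haveI : Fact (Nat.Prime 3) := ⟨Nat.prime_three⟩
      obtain ⟨hyo, hymap⟩ := hj' a ha (orderOf_eq_prime hk3 hk1) y hy Nat.prime_three
      obtain ⟨hyo', hymap'⟩ := hj' b hb (orderOf_eq_prime hq hq1) y' hy' Nat.prime_three
      rw [← orbit_eq_iff.2 hyo] at hyo'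
      obtain ⟨c, rfl⟩ := hyo'
      have hmem : f b ∈ (stabilizer H (c • y)).map f := by
        rw [hymap']; exact Subgroup.mem_zpowers _
      obtain ⟨b', hb', hbb⟩ := hmem
      have hcb : c⁻¹ * b' * c ∈ stabilizer H y := by
        rw [SetLike.mem_coe, mem_stabilizer_iff] at hb'
        rw [mem_stabilizer_iff]
        rw [mul_smul, mul_smul, hb', inv_smul_smul]
      have hK' : f (c⁻¹ * b' * c) ∈ K := by
        have := Subgroup.mem_map_of_mem f hcb
        rw [hymap] at this
        exact (Subgroup.zpowers_le.2 hkK) this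
      rw [← hbb]
      have := hK.conj_mem _ hK' (f c)
      rwa [← map_inv, ← map_mul, ← map_mul,
        show c * (c⁻¹ * b' * c) * c⁻¹ = b' by group] at this
    have hgenQ : Subgroup.closure {q : H ⧸ Z | q ^ 3 = 1} = ⊤ := by
      rw [eq_top_iff, ← Subgroup.map_top_of_surjective f (QuotientGroup.mk'_surjective Z),
        ← hgen, MonoidHom.map_closure]
      refine Subgroup.closure_mono ?_
      rintro _ ⟨h, hh, rfl⟩
      show f h ^ 3 = 1
      rw [← map_pow, hh, map_one]
    obtain ⟨π, hπ⟩ := exists_perm_five_of_sixty hQ hord hC hI h3 hgenQ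
    refine ⟨π.comp f, ?_⟩
    ext h
    simp only [MonoidHom.mem_ker, MonoidHom.comp_apply, map_eq_one_iff _ hπ]
    exact hmemZ h

end Abstract

end CfsgLib.PermGroups
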