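import Mathlib.GroupTheory.SpecificGroups.Alternating

/-!
Finite facts about the twenty 3-cycles of five letters, used for the theorem of Zassenhaus on
perfect groups of fixed-point-free automorphisms.
-/

set_option autoImplicit false

namespace CfsgLib.PermGroups.Perm5

open Equiv

set_option synthInstance.maxSize 4000
set_option synthInstance.maxHeartbeats 100000

/-- The twenty elements of order three. -/
def L5 : List (Perm (Fin 5)) :=
  [((0 : Fin 5), (1 : Fin 5), (2 : Fin 5)), (0,2,1), (0,1,3), (0,3,1), (0,1,4), (0,4,1), (0,2,3),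
    (0,3,2), (0,2,4), (0,4,2), (0,3,4), (0,4,3), (1,2,3), (1,3,2), (1,2,4), (1,4,2), (1,3,4),
    (1,4,3), (2,3,4), (2,4,3)].map fun t => swap t.1 t.2.1 * swap t.2.1 t.2.2

/-- The product has order two. -/
def R5 (x y : Perm (Fin 5)) : Prop := x * y ≠ 1 ∧ (x * y) ^ 2 = 1

instance (x y : Perm (Fin 5)) : Decidable (R5 x y) := by unfold R5; infer_instance

/-- The conjugates of `a` under the powers of `y`. -/
def blk (y a : Perm (Fin 5)) : List (Perm (Fin 5)) := [a, y * a * y⁻¹, y⁻¹ * a * y]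

theorem mem_L5 : ∀ x : Perm (Fin 5), x ≠ 1 → x ^ 3 = 1 → x ∈ L5 := by decide +kernel

theorem L5_isThreeCycle : ∀ x ∈ L5, x ≠ 1 ∧ x ^ 3 = 1 := by decide +kernel

theorem exists_match : ∀ y ∈ L5, ∀ a ∈ L5, R5 y a → ∀ b ∈ L5, R5 y b → b ∉ blk y a →
    ∃ b' ∈ blk y b, R5 a b' := by decide +kernel

theorem two_blocks : ∀ y ∈ L5, ∀ a ∈ L5, R5 y a → ∀ b ∈ L5, R5 y b → b ∉ blk y a →
    ∀ c ∈ L5, R5 y c → c ∈ blk y a ∨ c ∈ blk y b := by decide +kernel

theorem eq_word_of_not_R5 : ∀ y ∈ L5, ∀ b ∈ L5, R5 y b → ∀ c ∈ L5, R5 y c → c ∉ blk y b →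
    ¬ R5 b c → y = b * c⁻¹ * b⁻¹ * c ∨ y = c * b⁻¹ * c⁻¹ * b := by decide +kernel

theorem exists_blocks : ∀ y ∈ L5, ∀ x ∈ L5, x ≠ y → x ≠ y⁻¹ → ¬ R5 y x → ¬ R5 y x⁻¹ →
    R5 y (x * y * x⁻¹) ∧ R5 y (x⁻¹ * y * x) ∧
      x⁻¹ * y * x ∉ blk y (x * y * x⁻¹) := by decide +kernel

theorem clique_word : ∀ y ∈ L5, ∀ a ∈ L5, R5 y a → ∀ b ∈ L5, R5 y b → R5 a b → b ∉ blk y a →
    y * a⁻¹ * b * y⁻¹ = y⁻¹ * a * b⁻¹ * y ∧ y * a⁻¹ * b * y⁻¹ ∈ L5 := by decide +kernel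

/-- Words in three elements representing all twenty elements. -/
def wordList (y a b : Perm (Fin 5)) : List (Perm (Fin 5)) :=
  [y, a, b, y⁻¹, a⁻¹, b⁻¹, y * a⁻¹, y * b⁻¹, a * y⁻¹, b * y⁻¹, y⁻¹ * a, y⁻¹ * b, a⁻¹ * y,
    b⁻¹ * y, a * b * a⁻¹, a * b⁻¹ * a⁻¹, a⁻¹ * b * a, a⁻¹ * b⁻¹ * a, y * b * a * b,
    a * y⁻¹ * b * a⁻¹, b * y * a⁻¹ * b⁻¹, b * a * b * y, b * y⁻¹ * a, y * a⁻¹ * b * y⁻¹]

theorem mem_wordList : ∀ y ∈ L5, ∀ a ∈ L5, R5 y a → ∀ b ∈ L5, R5 y b → b ∉ blk y a →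
    ∀ x ∈ L5, x ∈ wordList y a b := by decide +kernel

theorem mem_closure_triple {y a b x : Perm (Fin 5)} (hy : y ∈ L5) (ha : a ∈ L5) (hya : R5 y a)
    (hb : b ∈ L5) (hyb : R5 y b) (hab : b ∉ blk y a) (hx : x ∈ L5) :
    x ∈ Subgroup.closure ({y, a, b} : Set (Perm (Fin 5))) := by
  have h := mem_wordList y hy a ha hya b hb hyb hab x hx
  have hy' : y ∈ Subgroup.closure ({y, a, b} : Set (Perm (Fin 5))) :=
    Subgroup.subset_closure (by simp)
  have ha' : a ∈ Subgroup.closure ({y, a, b} : Set (Perm (Fin 5))) :=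
    Subgroup.subset_closure (by simp)
  have hb' : b ∈ Subgroup.closure ({y, a, b} : Set (Perm (Fin 5))) :=
    Subgroup.subset_closure (by simp)
  revert h
  generalize Subgroup.closure ({y, a, b} : Set (Perm (Fin 5))) = K at *
  intro h
  simp only [wordList, List.mem_cons, List.not_mem_nil, or_false] at h
  rcases h with h | h | h | h | h | h | h | h | h | h | h | h | h | h | h | h | h | h | h | h | h |
    h | h | h <;> subst h <;>
    repeat (first | assumption | apply Subgroup.mul_mem | apply Subgroup.inv_mem)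

/-- The three-cycles fixing a common point of a pair. -/
def star (t u : Perm (Fin 5)) : List (Perm (Fin 5)) :=
  [t, t⁻¹] ++ blk t u ++ (blk t u).map (·⁻¹)

theorem exists_point_of_R5 : ∀ t ∈ L5, ∀ u ∈ L5, R5 t u →
    ∃ p : Fin 5, ∀ v ∈ L5, (v p = p ↔ v ∈ star t u) := by decide +kernel

theorem exists_pair_of_point : ∀ p : Fin 5, ∃ t ∈ L5, ∃ u ∈ L5, R5 t u ∧
    ∀ v ∈ L5, (v p = p ↔ v ∈ star t u) := by decide +kernel

theorem point_ext : ∀ p q : Fin 5, (∀ v ∈ L5, (v p = p ↔ v q = q)) → p = q := by decide +kernel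

theorem alternating_le {K : Subgroup (Perm (Fin 5))} (h : ∀ x ∈ L5, x ∈ K) :
    alternatingGroup (Fin 5) ≤ K := by
  rw [← Equiv.Perm.closure_three_cycles_eq_alternating, Subgroup.closure_le]
  intro x hx
  refine h x (mem_L5 x ?_ ?_)
  · rintro rfl
    simpa using Equiv.Perm.IsThreeCycle.orderOf hx
  · rw [← hx.orderOf]; exact pow_orderOf_eq_one x

end CfsgLib.PermGroups.Perm5
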