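import Cfsg.Agent.Lib.PermGroups.Zassenhaus.Linear
import Mathlib.GroupTheory.SemidirectProduct
import Mathlib.GroupTheory.SchurZassenhaus
import Mathlib.FieldTheory.IsAlgClosed.AlgebraicClosure
import Mathlib.Algebra.Field.ZMod
import Mathlib.GroupTheory.Sylow
import Mathlib.LinearAlgebra.Matrix.ToLinearEquiv

/-!
A group of fixed-point-free automorphisms of a finite group has a fixed-point-free representation
over an algebraically closed field.
-/

set_option autoImplicit false
set_option linter.style.haveILetI false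

namespace CfsgLib.PermGroups

open scoped Pointwise

open MulAction in
theorem card_dvd_card_sub_one {K : Type*} [Group K] [Finite K] {G : Type*} [Group G] [Finite G]
    (φ : G →* MulAut K) (hfpf : ∀ g : G, g ≠ 1 → ∀ k : K, φ g k = k → k = 1) :
    Nat.card G ∣ Nat.card K - 1 := by
  classical
  letI : MulAction G {k : K // k ≠ 1} :=
    { smul := fun g k => ⟨φ g k, fun h => k.2 ((φ g).injective (h.trans (map_one _).symm))⟩
      one_smul := fun k => Subtype.ext (by show φ 1 (k : K) = k; rw [map_one]; rfl)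
      mul_smul := fun g h k => Subtype.ext (by
        show φ (g * h) (k : K) = φ g (φ h k)
        rw [map_mul]; rfl) }
  have hstab : ∀ k : {k : K // k ≠ 1}, stabilizer G k = ⊥ := by
    intro k
    rw [eq_bot_iff]
    intro g hg
    rw [Subgroup.mem_bot]
    by_contra hne
    exact k.2 (hfpf g hne k (congrArg Subtype.val hg))
  have h := Nat.card_congr (selfEquivOrbitsQuotientProd hstab)
  rw [Nat.card_prod] at h
  haveI := Fintype.ofFinite K
  have h1 : Nat.card {k : K // k ≠ 1} = Nat.card K - 1 := by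
    rw [Nat.card_eq_fintype_card, Fintype.card_subtype_compl, Fintype.card_subtype_eq,
      Nat.card_eq_fintype_card]
  exact ⟨_, by rw [← h1, h, mul_comm]⟩

/-- Base change of a fixed-point-free action on an elementary abelian group. -/
theorem exists_rep_of_elementary {r : ℕ} [Fact r.Prime] {E : Type*} [CommGroup E] [Finite E]
    [Nontrivial E] (hE : ∀ x : E, x ^ r = 1) {G : Type*} [Group G] (ψ : G →* MulAut E)
    (hψ : ∀ g, g ≠ 1 → ∀ x : E, ψ g x = x → x = 1) :
    ∃ (n : ℕ) (ρ : G →* Module.End (AlgebraicClosure (ZMod r))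
      (Fin n → AlgebraicClosure (ZMod r))),
      0 < n ∧ ∀ g : G, g ≠ 1 → ∀ v, ρ g v = v → v = 0 := by
  classical
  obtain ⟨inst⟩ : Nonempty (Module (ZMod r) (Additive E)) := ⟨AddCommGroup.zmodModule (fun x => by
    apply Additive.toMul.injective
    rw [toMul_nsmul, toMul_zero]
    exact hE _)⟩
  haveI : Finite (Additive E) := Finite.of_equiv _ Additive.ofMul
  haveI : Nontrivial (Additive E) := Additive.ofMul.symm.nontrivial
  haveI : Module.Finite (ZMod r) (Additive E) := Module.Finite.of_finite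
  let ρ₀ : G →* Module.End (ZMod r) (Additive E) :=
    { toFun := fun g => ((ψ g).toMonoidHom.toAdditive).toZModLinearMap r
      map_one' := LinearMap.ext fun x => by simp
      map_mul' := fun g h => LinearMap.ext fun x => by simp }
  have hρ₀ : ∀ g, g ≠ 1 → ∀ x : Additive E, ρ₀ g x = x → x = 0 := fun g hg x hx =>
    Additive.toMul.injective (hψ g hg _ (congrArg Additive.toMul hx))
  set n := Module.finrank (ZMod r) (Additive E) with hn
  have hn0 : 0 < n := by
    exact Module.finrank_pos
  let b := Module.finBasis (ZMod r) (Additive E)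
  let M₀ : G →* Matrix (Fin n) (Fin n) (ZMod r) :=
    ((LinearMap.toMatrixAlgEquiv b :
      Module.End (ZMod r) (Additive E) ≃ₐ[ZMod r] _).toAlgHom.toRingHom.toMonoidHom).comp ρ₀
  have hdet : ∀ g, g ≠ 1 → (M₀ g - 1).det ≠ 0 := by
    intro g hg h0
    obtain ⟨v, hv, hMv⟩ := Matrix.exists_mulVec_eq_zero_iff.2 h0
    apply hv
    rw [Matrix.sub_mulVec, Matrix.one_mulVec, sub_eq_zero] at hMv
    have hfix : ρ₀ g (b.equivFun.symm v) = b.equivFun.symm v := by
      apply b.equivFun.injective
      rw [LinearEquiv.apply_symm_apply]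
      refine Eq.trans ?_ hMv
      funext i
      have := congrFun (LinearMap.toMatrix_mulVec_repr b b (ρ₀ g) (b.equivFun.symm v)) i
      rw [Module.Basis.equivFun_apply]
      rw [← this]
      congr 1
      · exact (LinearEquiv.apply_symm_apply b.equivFun v)
    have := hρ₀ g hg _ hfix
    rw [← LinearEquiv.apply_symm_apply b.equivFun v, this, map_zero]
  let ι : ZMod r →+* AlgebraicClosure (ZMod r) := algebraMap _ _
  let ρ : G →* Module.End (AlgebraicClosure (ZMod r)) (Fin n → AlgebraicClosure (ZMod r)) :=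
    ((Matrix.toLinAlgEquiv' : Matrix (Fin n) (Fin n) (AlgebraicClosure (ZMod r)) ≃ₐ[_] _).toAlgHom.toRingHom.toMonoidHom).comp
      (ι.mapMatrix.toMonoidHom.comp M₀)
  refine ⟨n, ρ, hn0, fun g hg v hv => ?_⟩
  have hd : ((M₀ g - 1).map ι).det ≠ 0 := by
    rw [← RingHom.mapMatrix_apply, ← RingHom.map_det]
    exact fun h => hdet g hg (ι.injective (h.trans (map_zero ι).symm))
  have hv' : (ι.mapMatrix (M₀ g)).mulVec v = v := hv
  refine Matrix.eq_zero_of_mulVec_eq_zero hd ?_
  rw [← RingHom.mapMatrix_apply, map_sub, map_one, Matrix.sub_mulVec, Matrix.one_mulVec, hv',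
    sub_self]

/-- A fixed-point-free representation over an algebraically closed field. -/
theorem exists_fpf_rep {K : Type*} [Group K] [Finite K] [Nontrivial K] {G : Type*} [Group G]
    [Finite G] (φ : G →* MulAut K) (hfpf : ∀ g : G, g ≠ 1 → ∀ k : K, φ g k = k → k = 1) :
    ∃ (r n : ℕ) (_ : Fact r.Prime)
      (ρ : G →* Module.End (AlgebraicClosure (ZMod r)) (Fin n → AlgebraicClosure (ZMod r))),
      0 < n ∧ (∀ g : G, g ≠ 1 → ∀ v, ρ g v = v → v = 0) ∧
        ((Nat.card G : ℕ) : AlgebraicClosure (ZMod r)) ≠ 0 := by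
  classical
  have hdvd := card_dvd_card_sub_one φ hfpf
  have hK1 : 1 < Nat.card K := Finite.one_lt_card
  have hcop : (Nat.card K).Coprime (Nat.card G) := by
    refine Nat.Coprime.coprime_dvd_right hdvd ?_
    exact (Nat.coprime_self_sub_right (by omega)).2 (Nat.coprime_one_right _)
  obtain ⟨r, hr, hrK⟩ := Nat.exists_prime_and_dvd hK1.ne'
  haveI hrf : Fact r.Prime := ⟨hr⟩
  let S := K ⋊[φ] G
  haveI : Finite S := Finite.of_equiv _ SemidirectProduct.equivProd.symm
  let f : S →* G := SemidirectProduct.rightHom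
  set K' : Subgroup S := f.ker with hK'
  have hK'r : K' = (SemidirectProduct.inl : K →* S).range :=
    SemidirectProduct.range_inl_eq_ker_rightHom.symm
  have hcardK' : Nat.card K' = Nat.card K := by
    rw [hK'r]
    exact (Nat.card_congr (MonoidHom.ofInjective SemidirectProduct.inl_injective).toEquiv).symm
  obtain ⟨P⟩ := (inferInstance : Nonempty (Sylow r K'))
  set P' : Subgroup S := (P : Subgroup K').map K'.subtype with hP'
  set Nn := Subgroup.normalizer (P' : Set S) with hNn
  have hsup : Nn ⊔ K' = ⊤ := Sylow.normalizer_sup_eq_top P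
  let f' : Nn →* G := f.comp Nn.subtype
  have hf's : Function.Surjective f' := by
    intro g
    have hg : (SemidirectProduct.inr g : S) ∈ (Nn : Set S) * (K' : Set S) := by
      rw [← Subgroup.coe_mul_of_left_le_normalizer_right (H := Nn) (N := K')
        (by rw [Subgroup.normalizer_eq_top]; exact le_top), hsup]
      exact Subgroup.mem_top _
    obtain ⟨u, hu, w, hw, huw⟩ := hg
    refine ⟨⟨u, hu⟩, ?_⟩
    have := congrArg f huw
    rw [map_mul, MonoidHom.mem_ker.1 hw, mul_one] at this
    show f u = g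
    rw [this]
    exact SemidirectProduct.rightHom_inr g
  have hindex : f'.ker.index = Nat.card G := by
    rw [Subgroup.index_ker, MonoidHom.range_eq_top.2 hf's, Subgroup.card_top]
  have hkercard : Nat.card f'.ker ∣ Nat.card K := by
    rw [← hcardK']
    exact Subgroup.card_dvd_of_injective
      ({ toFun := fun u => ⟨((u : Nn) : S), u.2⟩
         map_one' := rfl
         map_mul' := fun _ _ => rfl } : f'.ker →* K')
      (fun u v h => by injection h with h'; exact Subtype.ext (Subtype.ext h'))
  obtain ⟨C, hC⟩ := Subgroup.exists_right_complement'_of_coprime (N := f'.ker)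
    (by rw [hindex]; exact Nat.Coprime.coprime_dvd_left hkercard hcop)
  have hbij : Function.Bijective (f'.comp C.subtype) := by
    rw [Nat.bijective_iff_injective_and_card]
    refine ⟨?_, ?_⟩
    · rw [← MonoidHom.ker_eq_bot_iff, eq_bot_iff]
      intro c hc
      rw [Subgroup.mem_bot]
      have h1 : (c : Nn) ∈ f'.ker ⊓ C := ⟨hc, c.2⟩
      rw [hC.disjoint.eq_bot, Subgroup.mem_bot] at h1
      exact Subtype.ext h1
    · have h1 := hC.card_mul
      rw [← Subgroup.card_mul_index f'.ker, hindex] at h1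
      exact Nat.eq_of_mul_eq_mul_left Nat.card_pos h1
  let eC : C ≃* G := MulEquiv.ofBijective (f'.comp C.subtype) hbij
  let σ : G →* S := (Nn.subtype.comp C.subtype).comp eC.symm.toMonoidHom
  have hσN : ∀ g, σ g ∈ Nn := fun g => ((eC.symm g : C) : Nn).2
  have hσr : ∀ g, (σ g).right = g := fun g => eC.apply_symm_apply g
  -- fixed-point-freeness of the new action
  have hfp : ∀ g, g ≠ 1 → ∀ x : K, σ g * SemidirectProduct.inl x = SemidirectProduct.inl x * σ g →
      x = 1 := by
    intro g hg x hx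
    obtain ⟨a, ha⟩ : ∃ a : K, a⁻¹ * φ g a = (σ g).left := by
      refine Finite.surjective_of_injective (f := fun a : K => a⁻¹ * φ g a) ?_ _
      intro a b h
      dsimp only at h
      have : φ g (b * a⁻¹) = b * a⁻¹ := by
        rw [map_mul, map_inv]
        calc φ g b * (φ g a)⁻¹ = b * (b⁻¹ * φ g b) * (φ g a)⁻¹ := by group
          _ = b * a⁻¹ := by rw [← h]; group
      exact (mul_inv_eq_one.1 (hfpf g hg _ this)).symm
    have hσ : σ g = ⟨a⁻¹ * φ g a, g⟩ := SemidirectProduct.ext ha.symm (hσr g)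
    have h := congrArg SemidirectProduct.left hx
    rw [hσ] at h
    have h' : a⁻¹ * φ g a * φ g x = x * φ 1 (a⁻¹ * φ g a) := h
    rw [map_one, MulAut.one_apply] at h'
    have h2 : φ g (a * x * a⁻¹) = a * x * a⁻¹ := by
      rw [map_mul, map_mul, map_inv]
      calc φ g a * φ g x * (φ g a)⁻¹ = a * (a⁻¹ * φ g a * φ g x) * (φ g a)⁻¹ := by group
        _ = a * x * a⁻¹ := by rw [h']; group
    exact conj_eq_one_iff.1 (hfpf g hg _ h2)
  -- an elementary abelian section
  let E : Subgroup K :=
    { carrier := {x | SemidirectProduct.inl x ∈ P' ∧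
        (∀ u ∈ P', u * SemidirectProduct.inl x = SemidirectProduct.inl x * u) ∧ x ^ r = 1}
      one_mem' := ⟨by simp, fun u _ => by simp, one_pow r⟩
      mul_mem' := fun {x y} hx hy => ⟨by rw [map_mul]; exact mul_mem hx.1 hy.1,
        fun u hu => by rw [map_mul, ← mul_assoc, hx.2.1 u hu, mul_assoc, hy.2.1 u hu, mul_assoc],
        by
          have hc : Commute x y := SemidirectProduct.inl_injective (φ := φ) (by
            rw [map_mul, map_mul]; exact hy.2.1 _ hx.1)
          rw [hc.mul_pow, hx.2.2, hy.2.2, one_mul]⟩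
      inv_mem' := fun {x} hx => ⟨by rw [map_inv]; exact inv_mem hx.1,
        fun u hu => by rw [map_inv]; exact (Commute.inv_right (hx.2.1 u hu) :),
        by rw [inv_pow, hx.2.2, inv_one]⟩ }
  have hEinv : ∀ g : G, ∀ x ∈ E, ∃ y ∈ E,
      SemidirectProduct.inl y = σ g * SemidirectProduct.inl x * (σ g)⁻¹ := by
    intro g x hx
    have hm : σ g * SemidirectProduct.inl x * (σ g)⁻¹ ∈ P' :=
      (Subgroup.mem_normalizer_iff.1 (hσN g) _).1 hx.1
    obtain ⟨y, hy⟩ : σ g * SemidirectProduct.inl x * (σ g)⁻¹ ∈ (SemidirectProduct.inl : K →* S).range := by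
      rw [← hK'r]; exact (Subgroup.map_subtype_le (P : Subgroup K')) hm
    refine ⟨y, ⟨hy ▸ hm, fun u hu => ?_, ?_⟩, hy⟩
    · rw [hy]
      have h1 : (σ g)⁻¹ * u * σ g ∈ P' := (Subgroup.mem_normalizer_iff''.1 (hσN g) u).1 hu
      have h2 := hx.2.1 _ h1
      calc u * (σ g * SemidirectProduct.inl x * (σ g)⁻¹)
          = σ g * ((σ g)⁻¹ * u * σ g * SemidirectProduct.inl x) * (σ g)⁻¹ := by simp [mul_assoc]
        _ = _ := by rw [h2]; simp [mul_assoc]
    · apply SemidirectProduct.inl_injective (φ := φ)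
      rw [map_pow, hy, conj_pow, ← map_pow, hx.2.2, map_one, mul_one, mul_inv_cancel]
  choose τ hτE hτ using hEinv
  have hEne : ∃ x ∈ E, x ≠ 1 := by
    have hPp : IsPGroup r P' := P.isPGroup'.map _
    haveI : Nontrivial P' := by
      rw [Subgroup.nontrivial_iff_ne_bot, hP', Ne,
        Subgroup.map_eq_bot_iff_of_injective _ K'.subtype_injective]
      intro h
      have := P.dvd_card_of_dvd_card (hcardK'.symm ▸ hrK)
      rw [h, Subgroup.card_bot] at this
      exact hr.one_lt.ne' (Nat.dvd_one.1 this)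
    haveI := hPp.center_nontrivial
    obtain ⟨j, hj, hjc⟩ := (hPp.to_subgroup (Subgroup.center P')).nontrivial_iff_card.1 inferInstance
    obtain ⟨c, hc⟩ := exists_prime_orderOf_dvd_card' (G := Subgroup.center P') r
      (hjc ▸ dvd_pow_self r (by omega))
    have hcm : ((c : P') : S) ∈ (SemidirectProduct.inl : K →* S).range := by
      rw [← hK'r]; exact (Subgroup.map_subtype_le (P : Subgroup K')) (c : P').2
    obtain ⟨x, hx⟩ := hcm
    refine ⟨x, ⟨hx ▸ (c : P').2, fun u hu => ?_, ?_⟩, ?_⟩
    · rw [hx]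
      exact congrArg Subtype.val (Subgroup.mem_center_iff.1 c.2 ⟨u, hu⟩)
    · apply SemidirectProduct.inl_injective (φ := φ)
      rw [map_pow, hx, map_one, ← SubgroupClass.coe_pow, ← SubgroupClass.coe_pow, ← hc,
        pow_orderOf_eq_one]
      rfl
    · rintro rfl
      have : c = 1 := Subtype.ext (Subtype.ext (by rw [← hx, map_one]; rfl))
      rw [this, orderOf_one] at hc
      exact hr.one_lt.ne hc
  haveI hEc : IsMulCommutative E := IsMulCommutative.of_comm fun x y =>
    Subtype.ext (SemidirectProduct.inl_injective (φ := φ) (by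
      simp only [Subgroup.coe_mul, map_mul]; exact y.2.2.1 _ x.2.1))
  letI cgE : CommGroup E := { (inferInstance : Group E) with mul_comm := hEc.is_comm.comm }
  have hτone : ∀ x (hx : x ∈ E), τ 1 x hx = x := by
    intro x hx
    apply SemidirectProduct.inl_injective (φ := φ)
    rw [hτ, map_one, one_mul, inv_one, mul_one]
  have hτmul : ∀ g h x (hx : x ∈ E), τ (g * h) x hx = τ g (τ h x hx) (hτE h x hx) := by
    intro g h x hx
    apply SemidirectProduct.inl_injective (φ := φ)
    rw [hτ, hτ, hτ, map_mul]; simp [mul_assoc]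
  have hτadd : ∀ g x y (hx : x ∈ E) (hy : y ∈ E),
      τ g (x * y) (mul_mem hx hy) = τ g x hx * τ g y hy := by
    intro g x y hx hy
    apply SemidirectProduct.inl_injective (φ := φ)
    rw [map_mul, hτ, hτ, hτ, map_mul]; simp [mul_assoc]
  let a : G → (E →* E) := fun g => MonoidHom.mk' (fun x => ⟨τ g x x.2, hτE g x x.2⟩)
    (fun x y => Subtype.ext (hτadd g _ _ x.2 y.2))
  let ψ : G →* MulAut E := MonoidHom.mk'
    (fun g => (a g).toMulEquiv (a g⁻¹)
      (MonoidHom.ext fun x => Subtype.ext (by
        show τ g⁻¹ (τ g x x.2) _ = (x : K)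
        refine (hτmul g⁻¹ g x x.2).symm.trans ?_
        simp only [inv_mul_cancel]
        exact hτone _ x.2))
      (MonoidHom.ext fun x => Subtype.ext (by
        show τ g (τ g⁻¹ x x.2) _ = (x : K)
        refine (hτmul g g⁻¹ x x.2).symm.trans ?_
        simp only [mul_inv_cancel]
        exact hτone _ x.2)))
    (fun g h => MulEquiv.ext fun x => Subtype.ext (hτmul g h x x.2))
  have hψ : ∀ g, g ≠ 1 → ∀ x : E, ψ g x = x → x = 1 := by
    intro g hg x hx
    have h2 := hτ g _ x.2
    rw [show τ g (x : K) x.2 = (x : K) from congrArg Subtype.val hx] at h2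
    exact Subtype.ext (hfp g hg _ (mul_inv_eq_iff_eq_mul.1 h2.symm))
  obtain ⟨x, hxE, hx1⟩ := hEne
  haveI : Nontrivial E := ⟨⟨⟨x, hxE⟩, 1, fun h => hx1 (congrArg Subtype.val h)⟩⟩
  obtain ⟨n, ρ, hn, hρ⟩ := exists_rep_of_elementary (r := r)
    (fun x : E => Subtype.ext x.2.2.2) ψ hψ
  refine ⟨r, n, hrf, ρ, hn, hρ, fun h0 => ?_⟩
  rw [← map_natCast (algebraMap (ZMod r) (AlgebraicClosure (ZMod r))),
    ← map_zero (algebraMap (ZMod r) (AlgebraicClosure (ZMod r)))] at h0
  have := (ZMod.natCast_eq_zero_iff _ _).1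
    ((algebraMap (ZMod r) (AlgebraicClosure (ZMod r))).injective h0)
  have h1 : r ∣ 1 := hcop ▸ Nat.dvd_gcd hrK this
  exact hr.one_lt.ne' (Nat.dvd_one.1 h1)

end CfsgLib.PermGroups
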